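import Groth.Agent.Lib.RegSheaf.Pn
import Groth.Agent.Lib.RelVanish.Uniform
import Groth.Agent.Lib.Ample.ProjAmple
import Groth.Agent.Lib.CMReg.ProjSpace

/-!
# Twists of coherent modules on relative projective space are eventually regular
-/

universe u

set_option backward.isDefEq.respectTransparency false
set_option linter.style.haveILetI false

open AlgebraicGeometry CategoryTheory CategoryTheory.Limits TopologicalSpace Opposite

noncomputable section

namespace GrothLib.RegSheaf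

variable {n : ℕ} {Y : Scheme.{u}}

theorem isInvertible_twistOver (d : ℤ) : PicF.IsInvertible (Twist.twistOver n Y d) :=
  Ample.isInvertible_pullback _ (GrTilde.isInvertible_twist h1 d)

theorem isAmple_twistOver_restrict {W : Y.Opens} (hW : IsAffineOpen W) :
    CohB1.IsAmple ((Twist.twistOver n Y 1).restrict (KRR.pr n Y ⁻¹ᵁ W).ι) := by
  let U := KRR.pr n Y ⁻¹ᵁ W
  haveI : IsAffine W.toScheme := hW
  haveI : IsAffineHom (U.ι ≫ toZ n Y) :=
    MorphismProperty.of_isPullback (P := @IsAffineHom)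
      ((isPullback_morphismRestrict (KRR.pr n Y) W).flip.paste_horiz
        (IsPullback.of_hasPullback (CohB1.ProjSpace.toSpec n (ULift.{u} ℤ))
          (specULiftZIsTerminal.from Y))).flip inferInstance
  haveI : CompactSpace U.toScheme :=
    isCompact_iff_compactSpace.1 (QuasiCompact.isCompact_preimage (f := KRR.pr n Y) (W : Set Y) W.2 hW.isCompact)
  refine (Ample.isAmple_iff_of_iso ((Scheme.Modules.restrictFunctorIsoPullback U.ι).app _ ≪≫
    (Scheme.Modules.pullbackComp U.ι (toZ n Y)).app _)).mpr ?_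
  exact Ample.isAmple_pullback_of_isAffineHom (U.ι ≫ toZ n Y) (Ample.isAmple_twistProjSpace_one n _)

theorem nonempty_tensorPow : ∀ m : ℕ,
    Nonempty (CohB1.tensorPow (Twist.twistOver n Y 1) m ≅ Twist.twistOver n Y (m : ℤ)) := by
  intro m
  induction m with
  | zero =>
    obtain ⟨e⟩ := GrTilde.nonempty_structureModule_iso_twist_zero (CohB1.polyGrading n (ULift.{u} ℤ))
    exact ⟨(PicLoc.pullbackStructureIso _).symm ≪≫ (Scheme.Modules.pullback (toZ n Y)).mapIso e⟩
  | succ m ih =>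
    obtain ⟨e⟩ := ih
    obtain ⟨g⟩ := nonempty_twist_add (n := n) (T := Y) (a := (m : ℤ)) (b := 1) (c := ((m + 1 : ℕ) : ℤ))
      (by push_cast; ring)
    exact ⟨Ample.LineData.tensorModMapIso e (Iso.refl _) ≪≫ g⟩

theorem nonempty_tensorPow_twF (M : (KRR.PY n Y).Modules) (m : ℕ) :
    Nonempty (CohB1.tensorMod M (CohB1.tensorPow (Twist.twistOver n Y 1) m) ≅ KRR.twF n Y (m : ℤ) M) := by
  obtain ⟨e⟩ := nonempty_tensorPow (n := n) (Y := Y) m
  exact ⟨Ample.LineData.tensorModMapIso (Iso.refl M) e ≪≫ GrTilde.tensorModComm M _⟩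

theorem isCoh_twF [IsLocallyNoetherian Y] {M : (KRR.PY n Y).Modules} (hM : Coh.IsCoh M) (d : ℤ) :
    Coh.IsCoh (KRR.twF n Y d M) :=
  haveI : IsProper (KRR.pr n Y) := Chow.isProper_toBase n Y
  haveI := LocallyOfFiniteType.isLocallyNoetherian (KRR.pr n Y)
  QCoh.isCoh_of_iso (GrTilde.tensorModComm M (Twist.twistOver n Y d))
    (CMReg.isCoh_tensorMod hM (isInvertible_twistOver d))

/-- Higher direct images above `n` vanish on quasi-coherent modules. -/
theorem van_of_lt (M : (KRR.PY n Y).Modules) [M.IsQuasicoherent] {i : ℕ} (hi : n < i) :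
    Van (KRR.pr n Y) M i := by
  refine Cohom.isZero_RpushAb_of_basis (f := KRR.pr n Y) (Coh.toAb M) i Y.isBasis_affineOpens fun W' hW => ?_
  let W : Y.Opens := W'
  let U := KRR.pr n Y ⁻¹ᵁ W
  haveI : IsAffine W.toScheme := hW
  haveI : IsAffineHom (U.ι ≫ toZ n Y) :=
    MorphismProperty.of_isPullback (P := @IsAffineHom)
      ((isPullback_morphismRestrict (KRR.pr n Y) W).flip.paste_horiz
        (IsPullback.of_hasPullback (CohB1.ProjSpace.toSpec n (ULift.{u} ℤ))
          (specULiftZIsTerminal.from Y))).flip inferInstance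
  let 𝒮 : (KRR.PY n Y).Opens → Prop := fun V => ∃ (d : ℕ) (φ : MvPolynomial (Fin (n + 1)) (ULift.{u} ℤ)),
    φ ∈ CohB1.polyGrading n (ULift.{u} ℤ) d ∧ 0 < d ∧
      V = U ⊓ toZ n Y ⁻¹ᵁ Proj.basicOpen (CohB1.polyGrading n (ULift.{u} ℤ)) φ
  have haff : ∀ V, 𝒮 V → IsAffineOpen V := by
    rintro V ⟨d, φ, hφ, hd, rfl⟩
    have h2 := (Proj.isAffineOpen_basicOpen (CohB1.polyGrading n (ULift.{u} ℤ)) φ hφ hd).preimage (U.ι ≫ toZ n Y)
    rw [Scheme.Hom.comp_preimage] at h2
    have h3 := h2.image_of_isOpenImmersion U.ι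
    rwa [Scheme.Hom.image_preimage_eq_opensRange_inf, Scheme.Opens.opensRange_ι] at h3
  have hinf : ∀ V V', 𝒮 V → 𝒮 V' → 𝒮 (V ⊓ V') := by
    rintro V V' ⟨d, φ, hφ, hd, rfl⟩ ⟨d', φ', hφ', hd', rfl⟩
    refine ⟨d + d', φ * φ', SetLike.mul_mem_graded hφ hφ', by omega, ?_⟩
    rw [Proj.basicOpen_mul, Scheme.Hom.preimage_inf]
    exact inf_inf_inf_comm _ _ _ _ |>.trans (by rw [inf_idem])
  have h := Cohom.vanishFrom_iSup M 𝒮 haff hinf (n + 1)
    (fun j => U ⊓ toZ n Y ⁻¹ᵁ Proj.basicOpen (CohB1.polyGrading n (ULift.{u} ℤ)) (MvPolynomial.X j))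
    fun j => ⟨1, _, Ample.ProjMap.X_mem j, one_pos, rfl⟩
  rw [← inf_iSup_eq, ← Scheme.Hom.preimage_iSup, Ample.ProjMap.iSup_basicOpen_X n (ULift.{u} ℤ),
    Scheme.Hom.preimage_top, inf_top_eq] at h
  exact h i (by omega)

/-- High twists of a coherent module are regular. -/
theorem exists_regular [IsNoetherian Y] {M : (KRR.PY n Y).Modules} (hM : Coh.IsCoh M) :
    ∃ m₀ : ℕ, ∀ m, m₀ ≤ m → KRR.IsRegSheaf n Y (KRR.twF n Y (m : ℤ) M) := by
  haveI : IsProper (KRR.pr n Y) := Chow.isProper_toBase n Y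
  obtain ⟨n₀, hn₀⟩ := RelVanish.exists_isZero_RpushAb (KRR.pr n Y) (isInvertible_twistOver 1)
    (fun W hW => isAmple_twistOver_restrict hW) hM
  refine ⟨n₀ + n, fun m hm i hi => ?_⟩
  by_cases hin : n < i
  · haveI : (KRR.twF n Y (-(i : ℤ)) (KRR.twF n Y (m : ℤ) M)).IsQuasicoherent :=
      (isCoh_twF (isCoh_twF hM _) _).1
    exact van_of_lt _ hin
  · obtain ⟨e⟩ := nonempty_tensorPow_twF M (m - i)
    refine van_of_iso _ (e ≪≫ (nonempty_twF_twF ?_ M).some.symm) (hn₀ (m - i) (by omega) i hi)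
    omega

end GrothLib.RegSheaf
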