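import Groth.Agent.Lib.VA.VeryAmple
import Groth.Prelude.Def_CohBC2
import Groth.Prelude.Def_KRR

/-!
# The two spellings of the base change map
-/

universe u

set_option backward.isDefEq.respectTransparency false
set_option linter.style.haveILetI false

open AlgebraicGeometry CategoryTheory CategoryTheory.Limits Opposite

noncomputable section

namespace GrothLib.RegSheaf

theorem homEquiv_pullbackCongr {X Y : Scheme.{u}} {g h : X ⟶ Y} (e : g = h) {E : Y.Modules} {L : X.Modules}
    (k : (Scheme.Modules.pullback h).obj E ⟶ L) :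
    (Scheme.Modules.pullbackPushforwardAdjunction g).homEquiv E L
        ((Scheme.Modules.pullbackCongr e).hom.app E ≫ k) =
      (Scheme.Modules.pullbackPushforwardAdjunction h).homEquiv E L k ≫
        (Scheme.Modules.pushforwardCongr e.symm).hom.app L := by
  subst e
  have h1 : (Scheme.Modules.pushforwardCongr (rfl : g = g)).hom.app L = 𝟙 _ := by
    refine Scheme.Modules.hom_ext _ _ fun U => ?_
    rw [Scheme.Modules.pushforwardCongr_hom_app_app]
    exact L.presheaf.map_id _
  have h2 : (Scheme.Modules.pullbackCongr (rfl : g = g)).hom.app E = 𝟙 _ := rfl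
  rw [h1, h2, Category.id_comp, Category.comp_id]

variable {X₀ S S' X' : Scheme.{u}} (f : X₀ ⟶ S) (g : S' ⟶ S) (f' : X' ⟶ S') (g' : X' ⟶ X₀) (w : g' ≫ f = f' ≫ g)

/-- The transpose spelling of the base change map is `CohBC.bc0`. -/
theorem bc0_eq_mate (F : X₀.Modules) :
    (Scheme.Modules.pullbackPushforwardAdjunction f').homEquiv _ _
        ((Scheme.Modules.pullbackComp f' g).hom.app _ ≫ (Scheme.Modules.pullbackCongr w.symm).hom.app _ ≫
          (Scheme.Modules.pullbackComp g' f).inv.app _ ≫
            (Scheme.Modules.pullback g').map ((Scheme.Modules.pullbackPushforwardAdjunction f).counit.app F)) =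
      CohBC.bc0 f g f' g' w F := by
  let adjf := Scheme.Modules.pullbackPushforwardAdjunction f
  let adjg := Scheme.Modules.pullbackPushforwardAdjunction g'
  let k := (Scheme.Modules.pullbackCongr w.symm).hom.app ((Scheme.Modules.pushforward f).obj F) ≫
    (Scheme.Modules.pullbackComp g' f).inv.app _ ≫ (Scheme.Modules.pullback g').map (adjf.counit.app F)
  have h1 := VA.homEquiv_pullbackComp f' g ((Scheme.Modules.pullbackComp f' g).hom.app _ ≫ k)
  rw [← Category.assoc, Iso.inv_hom_id_app, Category.id_comp] at h1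
  have h2 : (Scheme.Modules.pullbackPushforwardAdjunction (g' ≫ f)).homEquiv _ _
      ((Scheme.Modules.pullbackComp g' f).inv.app ((Scheme.Modules.pushforward f).obj F) ≫
        (Scheme.Modules.pullback g').map (adjf.counit.app F)) =
      (Scheme.Modules.pushforward f).map (adjg.unit.app F) ≫ (Scheme.Modules.pushforwardComp g' f).hom.app _ := by
    rw [VA.homEquiv_pullbackComp]
    refine congrArg (· ≫ _) ?_
    have e1 : adjg.homEquiv _ _ ((Scheme.Modules.pullback g').map (adjf.counit.app F)) =
        adjf.counit.app F ≫ adjg.unit.app F := by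
      rw [Adjunction.homEquiv_unit]
      exact (adjg.unit.naturality (adjf.counit.app F)).symm
    refine (congrArg (adjf.homEquiv _ _) e1).trans ((adjf.homEquiv_naturality_right _ _).trans ?_)
    rw [Adjunction.homEquiv_unit, adjf.right_triangle_components]
    exact Category.id_comp _
  have h3 : (Scheme.Modules.pullbackPushforwardAdjunction (f' ≫ g)).homEquiv _ _ k =
      (Scheme.Modules.pushforward f).map (adjg.unit.app F) ≫ (Scheme.Modules.pushforwardComp g' f).hom.app _ ≫
        (Scheme.Modules.pushforwardCongr w).hom.app _ := by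
    refine (homEquiv_pullbackCongr w.symm _).trans ?_
    rw [h2, Category.assoc]
    rfl
  refine ((Equiv.eq_symm_apply _).2 ?_ : _ = CohBC.bc0 f g f' g' w F)
  rw [CohBC.bc0Adj, ← cancel_mono ((Scheme.Modules.pushforwardComp f' g).hom.app
    ((Scheme.Modules.pullback g').obj F))]
  simp only [Category.assoc, Iso.inv_hom_id_app, Category.comp_id]
  refine h1.symm.trans (h3.trans ?_)
  simp
  rfl

theorem bcMap_eq_bc0 (n : ℕ) {Y Y₁ : Scheme.{u}} (φ : Y₁ ⟶ Y)
    (hsq : KRR.projSpaceMap n φ ≫ KRR.pr n Y = KRR.pr n Y₁ ≫ φ) (F : (KRR.PY n Y).Modules) :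
    KRR.bcMap n φ hsq F = CohBC.bc0 (KRR.pr n Y) φ (KRR.pr n Y₁) (KRR.projSpaceMap n φ) hsq F :=
  bc0_eq_mate (KRR.pr n Y) φ (KRR.pr n Y₁) (KRR.projSpaceMap n φ) hsq F

end GrothLib.RegSheaf
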