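import Groth.Agent.Lib.RegSheaf.Pn
import Groth.Agent.Lib.BCCrit.Degree0
import Groth.Agent.Lib.BCCrit.DimBound
import Groth.Agent.Lib.CMReg.ProjSpace
import Groth.Agent.Lib.ProjPic26.Relative
import Groth.Agent.Lib.CohPullLib.Edge
import Groth.Agent.Lib.LocFreeHom.Lift
import Groth.Agent.Lib.LocFree8.Basic
import Groth.Agent.Lib.SheafCoh.ModGroth

/-!
# Regular bundles on relative projective space: goodness in every degree
-/

universe u

set_option backward.isDefEq.respectTransparency false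
set_option linter.style.haveILetI false

open AlgebraicGeometry CategoryTheory CategoryTheory.Limits TopologicalSpace Opposite

noncomputable section

namespace GrothLib.RegSheaf

theorem isZero_Rpush_of_Van {X Y : Scheme.{u}} (g : X ⟶ Y) [HasInjectiveResolutions X.Modules]
    (M : X.Modules) (q : ℕ) (h : Van g M q) : IsZero ((Coh.Rpush g q).obj M) := by
  obtain ⟨I⟩ := Cohom.nonempty_flRes M
  obtain ⟨e₁⟩ := Cohom.nonempty_Rpush_iso g I q
  obtain ⟨e₂⟩ := Cohom.nonempty_homology_iso_RpushAb g I q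
  have hz : IsZero ((QCoh.toAbFun Y).obj ((Coh.Rpush g q).obj M)) :=
    h.of_iso ((QCoh.toAbFun Y).mapIso e₁ ≪≫ e₂)
  have : (QCoh.toAbFun Y).Faithful := inferInstanceAs (SheafOfModules.toSheaf _).Faithful
  exact (IsZero.iff_id_eq_zero _).2 ((QCoh.toAbFun Y).map_injective (hz.eq_of_src _ _))

variable {n : ℕ} {Y : Scheme.{u}}

instance smooth_pr : Smooth (KRR.pr n Y) := ProjPic26.smooth_toBase Y

instance isProper_pr : IsProper (KRR.pr n Y) := Chow.isProper_toBase n Y

theorem isFinLocFree_twF {F : (KRR.PY n Y).Modules} (hF : FlatMod.IsFinLocFree F) (d : ℤ) :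
    FlatMod.IsFinLocFree (KRR.twF n Y d F) :=
  OX.isFinLocFree_tensor (isFinLocFree_twistOver d) hF

/-- Fibre cohomology of a quasi-coherent module vanishes above `n`. -/
theorem fiberRank_eq_zero_of_lt (F : (KRR.PY n Y).Modules) [F.IsQuasicoherent] (s : Y) {p : ℕ}
    (hp : n < p) : CohIII.fiberRank (KRR.pr n Y) F p s = 0 := by
  refine BCCoh.fiberRank_eq_zero_of_subsingleton (KRR.pr n Y) F p s ?_
  obtain ⟨ω, α, -, -, -⟩ := ProjPic26.exists_fiber_iso n Y s
  let G := (Scheme.Modules.pullback ((KRR.pr n Y).fiberι s)).obj F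
  haveI : G.IsQuasicoherent := FittSheaf.isQuasicoherent_pullback _ F
  obtain ⟨d⟩ := Cohom.nonempty_HH_equiv_pushforward α.inv G p
  haveI : ((Scheme.Modules.pushforward α.inv).obj G).IsQuasicoherent :=
    QCoh.isQuasicoherent_pushforward α.inv G
  haveI := CMReg.subsingleton_HH_of_lt ((Scheme.Modules.pushforward α.inv).obj G) hp
  exact d.toEquiv.subsingleton

/-- If all higher direct images above degree `p` vanish, every point is good in degrees at least `p`. -/
theorem goodAll_of_van {F : (KRR.PY n Y).Modules} [F.IsQuasicoherent] {p : ℕ}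
    (h : ∀ q, p < q → Van (KRR.pr n Y) F q) (s : Y) :
    BCCrit.GoodAll (KRR.pr n Y) F (p : ℤ) s := by
  haveI : EnoughInjectives (KRR.PY n Y).Modules :=
    SheafCoh.enoughInjectives_sheafOfModules (KRR.PY n Y).ringCatSheaf
  suffices ∀ (d q : ℕ), q + d = p + n + 1 → p ≤ q → BCCrit.GoodAll (KRR.pr n Y) F (q : ℤ) s from
    this (n + 1) p (by omega) le_rfl
  intro d
  induction d with
  | zero =>
    intro q hq _
    exact (BCCrit.goodAll_of_fiberRank_eq_zero q s (fiberRank_eq_zero_of_lt F s (by omega))).1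
  | succ d ih =>
    intro q hq hpq
    have h1 := ih (q + 1) (by omega) (by omega)
    have hz : IsZero ((Coh.Rpush (KRR.pr n Y) (q + 1)).obj F) :=
      isZero_Rpush_of_Van _ F _ (h (q + 1) (by omega))
    have h2 := BCCrit.goodAll_pred_of_free (q + 1) h1 (U := ⊤) (n := 0) trivial
      (IsZero.iso ((Scheme.Modules.restrictFunctor (⊤ : Y.Opens).ι).map_isZero hz) (BCCrit.isZero_freeMod_zero _))
    rwa [show ((q + 1 : ℕ) : ℤ) - 1 = (q : ℤ) by push_cast; ring] at h2

theorem goodAll_twF {F : (KRR.PY n Y).Modules} (hF : FlatMod.IsFinLocFree F)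
    (hreg : KRR.IsRegSheaf n Y F) {d : ℤ} {p : ℕ} (h : -((p : ℤ) + 1) ≤ d) (s : Y) :
    BCCrit.GoodAll (KRR.pr n Y) (KRR.twF n Y d F) (p : ℤ) s := by
  haveI : (KRR.twF n Y d F).IsQuasicoherent := (Euler.isCoh_of_isFinLocFree (isFinLocFree_twF hF d)).1
  exact goodAll_of_van (fun q hq => van_of_reg hreg (by omega) (by omega)) s

/-- The direct image of a regular bundle is a bundle. -/
theorem isFinLocFree_push {F : (KRR.PY n Y).Modules} (hF : FlatMod.IsFinLocFree F)
    (hvan : ∀ q, 0 < q → Van (KRR.pr n Y) F q) :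
    FlatMod.IsFinLocFree ((Scheme.Modules.pushforward (KRR.pr n Y)).obj F) := by
  haveI : F.IsQuasicoherent := (Euler.isCoh_of_isFinLocFree hF).1
  have hfp := LocFree8.isFP_of_isFinLocFree F hF
  have hfl : FlatMod.IsFlatOver (KRR.pr n Y) F := LocFreeHom.isFlatOver_of_isFinLocFree (KRR.pr n Y) hF
  intro y
  obtain ⟨U, m, hyU, hφ, -⟩ := BCCrit.exists_free_near0 hfp hfl y (goodAll_of_van hvan y)
  exact ⟨U, m, hyU, hφ⟩

end GrothLib.RegSheaf
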