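import Groth.Agent.Lib.RegSheaf.KReg
import Groth.Agent.Lib.RegSheaf.Good
import Groth.Agent.Lib.RegSheaf.Eventually

/-!
# Push-forward on `K` along relative projective space
-/

universe v u

set_option backward.isDefEq.respectTransparency false
set_option linter.style.haveILetI false

open AlgebraicGeometry CategoryTheory CategoryTheory.Limits TopologicalSpace Opposite

noncomputable section

namespace GrothLib.RegSheaf

variable {n : ℕ} {Y : Scheme.{u}}

theorem evReg [IsNoetherian Y] : EvReg n Y := fun F hF =>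
  let ⟨m₀, h⟩ := exists_regular (M := F) (Euler.isCoh_of_isFinLocFree hF)
  ⟨m₀, h m₀ le_rfl⟩

theorem isFinLocFree_push_reg {F : (KRR.PY n Y).Modules} (h : regP n Y F) :
    FlatMod.IsFinLocFree ((Scheme.Modules.pushforward (KRR.pr n Y)).obj F) :=
  isFinLocFree_push h.1 fun _ hq => van_zero_twist h.2 hq

/-- The push-forward on `K₀` of bundles. -/
theorem exists_pushK [IsNoetherian Y] :
    ∃ P : SGA6.Kvb (KRR.PY n Y) →+ SGA6.Kvb Y, ∀ F : (KRR.PY n Y).Modules, regP n Y F →
      P (KRR.cl _ F) = KRR.cl Y ((Scheme.Modules.pushforward (KRR.pr n Y)).obj F) := by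
  obtain ⟨ψ, hψ⟩ := K0Sub.exists_lift (P := regP n Y)
    (fun F => KRR.cl Y ((Scheme.Modules.pushforward (KRR.pr n Y)).obj F)) fun S hS h₁ h₂ h₃ =>
      K0Sub.clSub_add (P := KRR.vbP Y)
        (shortExact_map_pushforward (KRR.pr n Y) hS (van_zero_twist h₁.2 le_rfl))
        (isFinLocFree_push_reg h₁) (isFinLocFree_push_reg h₂) (isFinLocFree_push_reg h₃)
  obtain ⟨θ, hθ⟩ := exists_inverse (evReg (n := n) (Y := Y))
  refine ⟨ψ.comp θ, fun F hF => ?_⟩
  rw [AddMonoidHom.comp_apply]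
  exact (congrArg ψ (hθ F 0 hF.1 ⟨OX.isFinLocFree_tensor (isFinLocFree_twistOver _) hF.1,
    isRegSheaf_of_iso (nonempty_twF_zero F).some.symm hF.2⟩)).trans (hψ F hF)

/-- Regular classes generate. -/
theorem hom_ext_reg [IsNoetherian Y] {G : Type*} [AddCommGroup G] {f g : SGA6.Kvb (KRR.PY n Y) →+ G}
    (h : ∀ F : (KRR.PY n Y).Modules, regP n Y F → f (KRR.cl _ F) = g (KRR.cl _ F)) : f = g := by
  have hb := (bijective_incl (n := n) (T := Y) (fun _ hM => hM.1) evReg).2
  refine AddMonoidHom.ext fun x => ?_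
  obtain ⟨y, rfl⟩ := hb x
  refine DFunLike.congr_fun (K0Sub.hom_ext (f := f.comp (incl fun _ hM => hM.1))
    (g := g.comp (incl fun _ hM => hM.1)) fun F hF => ?_) y
  rw [AddMonoidHom.comp_apply, AddMonoidHom.comp_apply, K0Sub.mapSub_clSub _ _ _ hF]
  exact h F hF

end GrothLib.RegSheaf
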