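import Groth.Agent.Lib.RegSheaf.PullTwist
import Groth.Agent.Lib.RegSheaf.PushK
import Groth.Agent.Lib.RegSheaf.BCMate
import Groth.Agent.Lib.K0Sub.Pullback

/-!
# Base change of regular bundles
-/

universe v u

set_option backward.isDefEq.respectTransparency false
set_option linter.style.haveILetI false

open AlgebraicGeometry CategoryTheory CategoryTheory.Limits TopologicalSpace Opposite

noncomputable section

namespace GrothLib.RegSheaf

variable {n : ℕ} {Y Y₁ : Scheme.{u}} (φ : Y₁ ⟶ Y)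

theorem projSpaceMap_fst : KRR.projSpaceMap n φ ≫ toZ n Y = toZ n Y₁ :=
  (pullback.lift_fst _ _ _).trans (Category.comp_id _)

theorem projSpaceMap_snd : KRR.projSpaceMap n φ ≫ KRR.pr n Y = KRR.pr n Y₁ ≫ φ :=
  pullback.lift_snd _ _ _

theorem isPullback_projSpaceMap :
    IsPullback (KRR.projSpaceMap n φ) (KRR.pr n Y₁) (KRR.pr n Y) φ := by
  refine IsPullback.of_right ?_ (projSpaceMap_snd φ) (IsPullback.of_hasPullback
    (CohB1.ProjSpace.toSpec n (ULift.{u} ℤ)) (specULiftZIsTerminal.from Y))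
  rw [show KRR.projSpaceMap n φ ≫ pullback.fst _ _ = _ from projSpaceMap_fst φ,
    specULiftZIsTerminal.hom_ext (φ ≫ specULiftZIsTerminal.from Y) (specULiftZIsTerminal.from Y₁)]
  exact IsPullback.of_hasPullback _ _

theorem nonempty_pullback_twF (d : ℤ) (M : (KRR.PY n Y).Modules) :
    Nonempty ((Scheme.Modules.pullback (KRR.projSpaceMap n φ)).obj (KRR.twF n Y d M) ≅
      KRR.twF n Y₁ d ((Scheme.Modules.pullback (KRR.projSpaceMap n φ)).obj M)) :=
  ⟨OX.pullTensorIso (KRR.projSpaceMap n φ) (Twist.twistOver n Y d) M ≪≫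
    Ample.LineData.tensorModMapIso ((Scheme.Modules.pullbackComp (KRR.projSpaceMap n φ) (toZ n Y)).app _ ≪≫
      (Scheme.Modules.pullbackCongr (projSpaceMap_fst φ)).app _) (Iso.refl _)⟩

/-- `ψ^* p^* = p₁^* φ^*`. -/
def pullPullIso (T : Y.Modules) :
    (Scheme.Modules.pullback (KRR.projSpaceMap n φ)).obj ((Scheme.Modules.pullback (KRR.pr n Y)).obj T) ≅
      (Scheme.Modules.pullback (KRR.pr n Y₁)).obj ((Scheme.Modules.pullback φ).obj T) :=
  (Scheme.Modules.pullbackComp _ _).app T ≪≫ (Scheme.Modules.pullbackCongr (projSpaceMap_snd φ)).app T ≪≫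
    ((Scheme.Modules.pullbackComp _ _).app T).symm

variable [IsNoetherian Y] [IsNoetherian Y₁]

theorem van_pullback_reg : ∀ (k : ℕ) (F : (KRR.PY n Y).Modules), regP n Y F → ∀ i : ℕ, 1 ≤ i → n + 1 ≤ i + k →
    Van (KRR.pr n Y₁) (KRR.twF n Y₁ (-(i : ℤ)) ((Scheme.Modules.pullback (KRR.projSpaceMap n φ)).obj F)) i := by
  intro k
  induction k with
  | zero =>
    intro F hF i _ hi
    haveI := (Euler.isCoh_of_isFinLocFree
      (isFinLocFree_twF (OX.isFinLocFree_pullback (KRR.projSpaceMap n φ) hF.1) (-(i : ℤ)))).1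
    exact van_of_lt _ (by omega)
  | succ k ih =>
    intro F hF i hi hik
    by_cases hin : n < i
    · haveI := (Euler.isCoh_of_isFinLocFree
        (isFinLocFree_twF (OX.isFinLocFree_pullback (KRR.projSpaceMap n φ) hF.1) (-(i : ℤ)))).1
      exact van_of_lt _ hin
    haveI : F.IsQuasicoherent := (Euler.isCoh_of_isFinLocFree hF.1).1
    haveI he := epi_counit hF.2
    let adj := Scheme.Modules.pullbackPushforwardAdjunction (KRR.pr n Y)
    have hT : FlatMod.IsFinLocFree ((Scheme.Modules.pushforward (KRR.pr n Y)).obj F) := isFinLocFree_push_reg hF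
    have hP := OX.isFinLocFree_pullback (KRR.pr n Y) hT
    let Z := kernel (adj.counit.app F)
    have hZ : FlatMod.IsFinLocFree Z := OX.isFinLocFree_kernel _ hP hF.1
    haveI : Epi ((Scheme.Modules.pushforward (KRR.pr n Y)).map (adj.counit.app F)) :=
      (⟨adj.unit.app ((Scheme.Modules.pushforward (KRR.pr n Y)).obj F), adj.right_triangle_components F⟩ :
        SplitEpi _).epi
    have hZ1 : regP n Y (KRR.twF n Y 1 Z) := ⟨isFinLocFree_twF hZ 1,
      @isRegSheaf_twF_one_X₁ n Y (ShortComplex.mk (kernel.ι (adj.counit.app F)) (adj.counit.app F) (kernel.condition _))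
        (K0Sub.shortExact_kernel (adj.counit.app F))
        (isRegSheaf_twF_one_pullback (Euler.isCoh_of_isFinLocFree hT)) hF.2 inferInstance⟩
    haveI : (Scheme.Modules.pullback (KRR.projSpaceMap n φ)).Additive :=
      (Scheme.Modules.pullbackPushforwardAdjunction _).left_adjoint_additive
    have hS := K0Sub.shortExact_map_pullback (KRR.projSpaceMap n φ) _ (K0Sub.shortExact_kernel (adj.counit.app F)) hF.1
    obtain ⟨j, rfl⟩ : ∃ j, i = j + 1 := ⟨i - 1, by omega⟩
    refine GrothSS.isZero_rightDerived_X₃ (Coh.pushAb (KRR.pr n Y₁)) j _ (toAb_twF_shortExact _ hS) ?_ ?_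
    · obtain ⟨e⟩ := nonempty_pullback_twF (n := n) φ 1 Z
      exact van_of_iso (KRR.pr n Y₁) (((DCoh.tensorBi (X := KRR.PY n Y₁)).obj _).mapIso e ≪≫
        (nonempty_twF_twF (by push_cast; ring) _).some) (ih _ hZ1 (j + 2) (by omega) (by omega))
    · exact van_of_iso (KRR.pr n Y₁) (((DCoh.tensorBi (X := KRR.PY n Y₁)).obj _).mapIso
        (pullPullIso (n := n) φ _).symm)
        (van_twF_pullback (d := -((j + 1 : ℕ) : ℤ))
          (Euler.isCoh_of_isFinLocFree (OX.isFinLocFree_pullback φ hT)) (by omega) hi)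

theorem regP_pullback {F : (KRR.PY n Y).Modules} (hF : regP n Y F) :
    regP n Y₁ ((Scheme.Modules.pullback (KRR.projSpaceMap n φ)).obj F) :=
  ⟨OX.isFinLocFree_pullback _ hF.1, fun i hi => van_pullback_reg φ (n + 1) F hF i hi (by omega)⟩

theorem isIso_bcMap {F : (KRR.PY n Y).Modules} (hF : regP n Y F)
    (hsq : KRR.projSpaceMap n φ ≫ KRR.pr n Y = KRR.pr n Y₁ ≫ φ) : IsIso (KRR.bcMap n φ hsq F) := by
  haveI : F.IsQuasicoherent := (Euler.isCoh_of_isFinLocFree hF.1).1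
  haveI : Coh.IsQCoh F := ‹F.IsQuasicoherent›
  rw [bcMap_eq_bc0]
  exact BCCrit.isIso_bc0_of_goodAll (LocFree8.isFP_of_isFinLocFree F hF.1)
    (LocFreeHom.isFlatOver_of_isFinLocFree (KRR.pr n Y) hF.1) ⊤
    (fun s _ => goodAll_of_van (fun q hq => van_zero_twist hF.2 hq) s) (isPullback_projSpaceMap φ)
    (fun _ => trivial)

/-- Base change for the push-forward on `K`. -/
theorem pushPr_baseChange {KP KY KP₁ KY₁ : Type v} [CommRing KP] [CommRing KY] [CommRing KP₁] [CommRing KY₁]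
    {φP : SGA6.Kvb (KRR.PY n Y) →+ KP} (hφP : Function.Bijective φP) {φY : SGA6.Kvb Y →+ KY}
    {φP₁ : SGA6.Kvb (KRR.PY n Y₁) →+ KP₁} {φY₁ : SGA6.Kvb Y₁ →+ KY₁}
    {gφ : KY →+ KY₁} (hgφ : KRR.IsPull φ φY φY₁ gφ)
    {gψ : KP →+ KP₁} (hgψ : KRR.IsPull (KRR.projSpaceMap n φ) φP φP₁ gψ)
    {b : KP →+ KY} (hb : KRR.IsPushPr n Y φP φY b) {b₁ : KP₁ →+ KY₁} (hb₁ : KRR.IsPushPr n Y₁ φP₁ φY₁ b₁)
    (z : KP) : gφ (b z) = b₁ (gψ z) := by
  obtain ⟨a, rfl⟩ := hφP.2 z
  have h := hom_ext_reg (f := (gφ.comp b).comp φP) (g := (b₁.comp gψ).comp φP) fun F hF => ?_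
  · exact DFunLike.congr_fun h a
  simp only [AddMonoidHom.comp_apply]
  have hF' := regP_pullback φ hF
  haveI := isIso_bcMap φ hF (projSpaceMap_snd φ)
  rw [hb F hF.1 hF.2, hgφ _ (isFinLocFree_push_reg hF), hgψ F hF.1, hb₁ _ hF'.1 hF'.2]
  exact congrArg φY₁ (clSub_iso (fun _ hZ => DCoh.isFinLocFree_of_isZero hZ)
    (asIso (KRR.bcMap n φ (projSpaceMap_snd φ) F))
    (OX.isFinLocFree_pullback _ (isFinLocFree_push_reg hF)) (isFinLocFree_push_reg hF'))

end GrothLib.RegSheaf
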