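import Groth.Agent.Lib.RegSheaf.Pn
import Groth.Agent.Lib.K0Sub.Basic
import Groth.Agent.Lib.OX.SingleDegree
import Groth.Agent.Lib.DCoh.LocFree

/-!
# Classes of regular bundles on relative projective space
-/

universe u

set_option backward.isDefEq.respectTransparency false
set_option linter.style.haveILetI false
set_option maxHeartbeats 400000

open AlgebraicGeometry CategoryTheory CategoryTheory.Limits TopologicalSpace Opposite
open GrothLib.Ample (Cocycle)
open GrothLib.CMReg (tw twPow kos cyc cycSeq Covers)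

noncomputable section

namespace GrothLib.RegSheaf

/-- Classes respect isomorphisms. -/
theorem clSub_iso {X : Scheme.{u}} {P : ObjectProperty X.Modules}
    (hz : ∀ Z : X.Modules, IsZero Z → P Z) {M N : X.Modules} (e : M ≅ N) (hM : P M) (hN : P N) :
    KZero.clSub P M = KZero.clSub P N := by
  have := K0Sub.clSub_add (P := P) (K0Sub.shortExact_kernel e.hom) (hz _ (isZero_kernel_of_mono e.hom)) hM hN
  rwa [K0Sub.clSub_isZero (isZero_kernel_of_mono e.hom), zero_add] at this

theorem kos_class {X : Scheme.{u}} (c : Cocycle X) (a : ℕ → c.sect 1 ⊤) (P : ObjectProperty X.Modules)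
    (hz : ∀ Z : X.Modules, IsZero Z → P Z) (hb : ∀ A B : X.Modules, P A → P B → P (A ⊞ B)) :
    ∀ (r j : ℕ) (M : X.Modules), (∀ i, i ≤ r → P ((twPow c i).obj M)) →
      P (((kos c a r).K j).obj M) ∧ KZero.clSub P (((kos c a r).K j).obj M) =
        r.choose j • KZero.clSub P ((twPow c j).obj M) := by
  intro r
  induction r with
  | zero =>
    intro j M h
    cases j with
    | zero => exact ⟨h 0 le_rfl, (one_smul _ _).symm⟩
    | succ j =>
      have hk := CMReg.isZero_kos c a 0 (j + 1) j.succ_pos M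
      exact ⟨hz _ hk, by rw [K0Sub.clSub_isZero hk, Nat.choose_zero_succ, zero_smul]⟩
  | succ r ih =>
    intro j M h
    cases j with
    | zero =>
      obtain ⟨h1, h2⟩ := ih 0 M fun i hi => h i (hi.trans r.le_succ)
      exact ⟨h1, h2.trans (by rw [Nat.choose_zero_right, Nat.choose_zero_right])⟩
    | succ j =>
      obtain ⟨h1, e1⟩ := ih (j + 1) M fun i hi => h i (hi.trans r.le_succ)
      obtain ⟨h2, e2⟩ := ih j ((tw c).obj M) fun i hi => h (i + 1) (by omega)
      refine ⟨hb _ _ h1 h2, ?_⟩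
      have e := K0Sub.clSub_add (P := P)
        (ShortComplex.Splitting.ofHasBinaryBiproduct (((kos c a r).K (j + 1)).obj M)
          (((kos c a r).K j).obj ((tw c).obj M))).shortExact h1 (hb _ _ h1 h2) h2
      refine e.trans ?_
      dsimp only
      rw [e1, e2, Nat.choose_succ_succ', add_smul, add_comm]
      rfl

/-- The alternating relation between the iterated twists. -/
theorem koszul_relation {X : Scheme.{u}} {c : Cocycle X} {a : ℕ → c.sect 1 ⊤} {r : ℕ} (hc : Covers c a r)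
    (P : ObjectProperty X.Modules)
    (hz : ∀ Z : X.Modules, IsZero Z → P Z) (hb : ∀ A B : X.Modules, P A → P B → P (A ⊞ B))
    (M : X.Modules) (h : ∀ i, i ≤ r → P ((twPow c i).obj M)) (hcyc : ∀ j, j ≤ r → P (cyc c a r M j)) :
    ∑ i ∈ Finset.range (r + 1), ((-1 : ℤ) ^ i * r.choose i) • KZero.clSub P ((twPow c i).obj M) = 0 := by
  have key : ∀ j, j ≤ r →
      (∑ i ∈ Finset.range j, ((-1 : ℤ) ^ i * r.choose i) • KZero.clSub P ((twPow c i).obj M)) +
        (-1 : ℤ) ^ j • KZero.clSub P (cyc c a r M j) = 0 := by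
    intro j
    induction j with
    | zero =>
      intro _
      rw [Finset.sum_range_zero, K0Sub.clSub_isZero (CMReg.isZero_cyc_zero hc M), smul_zero, add_zero]
    | succ j ih =>
      intro hj
      obtain ⟨hK, eK⟩ := kos_class c a P hz hb r j M h
      have e := K0Sub.clSub_add (P := P) (CMReg.shortExact_cycSeq hc M j) (hcyc j (by omega)) hK (hcyc (j + 1) hj)
      refine Eq.trans ?_ (ih (by omega))
      rw [Finset.sum_range_succ, add_assoc]
      refine congrArg (_ + ·) ?_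
      dsimp only at e
      rw [mul_smul, natCast_zsmul, ← eK, e, smul_add, pow_succ, mul_neg_one, neg_smul,
        add_neg_cancel_right]
  have hd : ((kos c a r).d r).app M = 0 :=
    (CMReg.isZero_kos c a r (r + 1) r.lt_succ_self M).eq_of_tgt _ _
  haveI := CMReg.isIso_top c a r M
  refine Eq.trans ?_ (key r le_rfl)
  rw [Finset.sum_range_succ, Nat.choose_self, Nat.cast_one, mul_one]
  refine congrArg (fun t => _ + (-1 : ℤ) ^ r • t) (clSub_iso hz ?_ (h r le_rfl) (hcyc r le_rfl))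
  exact ((eqToIso (congrArg (fun φ => kernel φ) hd) ≪≫ kernelZeroIsoSource) ≪≫
    asIso ((CMReg.top c a r).app M)).symm

variable (n : ℕ) (T : Scheme.{u})

/-- Regular bundles. -/
abbrev regP : ObjectProperty (KRR.PY n T).Modules :=
  fun M => FlatMod.IsFinLocFree M ∧ KRR.IsRegSheaf n T M

/-- Their `K₀`. -/
abbrev Kreg := KZero.K0sub (regP n T)

variable {n T}

theorem isRegSheaf_of_isZero {Z : (KRR.PY n T).Modules} (hZ : IsZero Z) : KRR.IsRegSheaf n T Z :=
  fun i _ => van_of_isZero (KRR.pr n T) (((DCoh.tensorBi (X := KRR.PY n T)).obj _).map_isZero hZ) i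

theorem regP_of_isZero {Z : (KRR.PY n T).Modules} (hZ : IsZero Z) : regP n T Z :=
  ⟨DCoh.isFinLocFree_of_isZero hZ, isRegSheaf_of_isZero hZ⟩

theorem regP_biprod (A B : (KRR.PY n T).Modules) (hA : regP n T A) (hB : regP n T B) : regP n T (A ⊞ B) := by
  refine ⟨DCoh.isFinLocFree_biprod hA.1 hB.1, ?_⟩
  have hS : (ShortComplex.mk (biprod.inl : A ⟶ A ⊞ B) biprod.snd biprod.inl_snd).ShortExact :=
    (ShortComplex.Splitting.ofHasBinaryBiproduct A B).shortExact
  have h2 := @isRegSheaf_X₂ n T (ShortComplex.mk (biprod.inl : A ⟶ A ⊞ B) biprod.snd biprod.inl_snd) hS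
  exact h2 hA.2 hB.2

theorem isFinLocFree_twPow {M : (KRR.PY n T).Modules} (hM : FlatMod.IsFinLocFree M) (s : ℕ) :
    FlatMod.IsFinLocFree ((twPow (cT n T) s).obj M) := by
  obtain ⟨e⟩ := nonempty_twPow_twF (n := n) (T := T) s 0 s M (by ring)
  exact DCoh.isFinLocFree_of_iso (e.symm ≪≫ (twPow (cT n T) s).mapIso (nonempty_twF_zero M).some)
    (OX.isFinLocFree_tensor (isFinLocFree_twistOver _) hM)

theorem nonempty_twPow_iso (M : (KRR.PY n T).Modules) (s : ℕ) :
    Nonempty ((twPow (cT n T) s).obj M ≅ KRR.twF n T (s : ℤ) M) := by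
  obtain ⟨e⟩ := nonempty_twPow_twF (n := n) (T := T) s 0 s M (by ring)
  exact ⟨(twPow (cT n T) s).mapIso (nonempty_twF_zero M).some.symm ≪≫ e⟩

theorem isFinLocFree_cyc {M : (KRR.PY n T).Modules} (hM : FlatMod.IsFinLocFree M) :
    ∀ d j, j + d = n + 1 → FlatMod.IsFinLocFree (cyc (cT n T) (aT n T) (n + 1) M j) := by
  intro d
  induction d with
  | zero =>
    intro j hj
    obtain rfl : j = n + 1 := by omega
    have hd : ((kos (cT n T) (aT n T) (n + 1)).d (n + 1)).app M = 0 :=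
      (CMReg.isZero_kos _ _ (n + 1) (n + 2) (n + 1).lt_succ_self M).eq_of_tgt _ _
    haveI := CMReg.isIso_top (cT n T) (aT n T) (n + 1) M
    exact DCoh.isFinLocFree_of_iso (((eqToIso (congrArg (fun φ => kernel φ) hd) ≪≫ kernelZeroIsoSource) ≪≫
      asIso ((CMReg.top (cT n T) (aT n T) (n + 1)).app M)).symm) (isFinLocFree_twPow hM _)
  | succ d ih =>
    intro j hj
    have hS := CMReg.shortExact_cycSeq (covers n T) M j
    haveI := hS.epi_g
    have hK := (kos_class (cT n T) (aT n T) (fun M => FlatMod.IsFinLocFree M)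
      (fun _ hZ => DCoh.isFinLocFree_of_isZero hZ) (fun _ _ h h' => DCoh.isFinLocFree_biprod h h')
      (n + 1) j M fun i _ => isFinLocFree_twPow hM i).1
    exact DCoh.isFinLocFree_of_iso ((kernelIsKernel (cycSeq (cT n T) (aT n T) (n + 1) M j).g).conePointUniqueUpToIso
      hS.fIsKernel) (OX.isFinLocFree_kernel _ hK (ih (j + 1) (by omega)))

theorem isRegSheaf_cyc {M : (KRR.PY n T).Modules} (h : regP n T M) :
    ∀ j, KRR.IsRegSheaf n T (cyc (cT n T) (aT n T) (n + 1) M j) := by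
  intro j
  induction j with
  | zero => exact isRegSheaf_of_isZero (CMReg.isZero_cyc_zero (covers n T) M)
  | succ j ih =>
    have h3 := @isRegSheaf_X₃ n T (cycSeq (cT n T) (aT n T) (n + 1) M j)
      (CMReg.shortExact_cycSeq (covers n T) M j)
    refine h3 ?_ (van_of_reg_step ih)
    exact (kos_class (cT n T) (aT n T) (regP n T) (fun _ hZ => regP_of_isZero hZ) regP_biprod
      (n + 1) j M fun i _ => ⟨isFinLocFree_twPow h.1 i,
        isRegSheaf_of_iso (nonempty_twPow_iso M i).some.symm (isRegSheaf_twF_nat h.2 i)⟩).1.2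

theorem regP_twF {M : (KRR.PY n T).Modules} (h : regP n T M) (m : ℕ) : regP n T (KRR.twF n T (m : ℤ) M) :=
  ⟨OX.isFinLocFree_tensor (isFinLocFree_twistOver _) h.1, isRegSheaf_twF_nat h.2 m⟩

/-- The coefficient of `F(i + 1)` in the expression of `F`. -/
abbrev coef (n i : ℕ) : ℤ := (-1) ^ i * (n + 1).choose (i + 1)

theorem reg_relation {M : (KRR.PY n T).Modules} (h : regP n T M) :
    KZero.clSub (regP n T) M =
      ∑ i ∈ Finset.range (n + 1), coef n i • KZero.clSub (regP n T) (KRR.twF n T ((i + 1 : ℕ) : ℤ) M) := by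
  have hP : ∀ i, regP n T ((twPow (cT n T) i).obj M) := fun i => ⟨isFinLocFree_twPow h.1 i,
    isRegSheaf_of_iso (nonempty_twPow_iso M i).some.symm (isRegSheaf_twF_nat h.2 i)⟩
  have e := koszul_relation (covers n T) (regP n T) (fun _ hZ => regP_of_isZero hZ) regP_biprod M
    (fun i _ => hP i) fun j hj => ⟨isFinLocFree_cyc h.1 (n + 1 - j) j (by omega), isRegSheaf_cyc h j⟩
  rw [Finset.sum_range_succ', add_comm] at e
  rw [pow_zero, Nat.choose_zero_right, Nat.cast_one, mul_one, one_smul] at e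
  refine (eq_neg_of_add_eq_zero_left e).trans ?_
  rw [← Finset.sum_neg_distrib]
  refine Finset.sum_congr rfl fun i _ => ?_
  rw [← neg_smul, clSub_iso (fun _ hZ => regP_of_isZero hZ) (nonempty_twPow_iso M (i + 1)).some (hP _)
    (regP_twF h _)]
  congr 1
  rw [coef, pow_succ]; ring

theorem vb_relation {M : (KRR.PY n T).Modules} (h : FlatMod.IsFinLocFree M) :
    KRR.cl (KRR.PY n T) M =
      ∑ i ∈ Finset.range (n + 1), coef n i • KRR.cl (KRR.PY n T) (KRR.twF n T ((i + 1 : ℕ) : ℤ) M) := by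
  have hP : ∀ i, KRR.vbP (KRR.PY n T) ((twPow (cT n T) i).obj M) := isFinLocFree_twPow h
  have e := koszul_relation (covers n T) (KRR.vbP (KRR.PY n T)) (fun _ hZ => DCoh.isFinLocFree_of_isZero hZ)
    (fun _ _ h h' => DCoh.isFinLocFree_biprod h h') M (fun i _ => hP i)
    fun j hj => isFinLocFree_cyc h (n + 1 - j) j (by omega)
  rw [Finset.sum_range_succ', add_comm] at e
  rw [pow_zero, Nat.choose_zero_right, Nat.cast_one, mul_one, one_smul] at e
  refine (eq_neg_of_add_eq_zero_left e).trans ?_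
  rw [← Finset.sum_neg_distrib]
  refine Finset.sum_congr rfl fun i _ => ?_
  rw [← neg_smul, clSub_iso (fun _ hZ => DCoh.isFinLocFree_of_isZero hZ) (nonempty_twPow_iso M (i + 1)).some
    (hP _) (OX.isFinLocFree_tensor (isFinLocFree_twistOver _) h)]
  congr 1
  rw [coef, pow_succ]; ring

/-- The class in `Kreg` computed from a twist. -/
def psi : ℕ → (KRR.PY n T).Modules → Kreg n T
  | 0, F => KZero.clSub (regP n T) F
  | m + 1, F => ∑ i ∈ Finset.range (n + 1), coef n i • psi m (KRR.twF n T ((i + 1 : ℕ) : ℤ) F)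

theorem regP_twF_twF {F : (KRR.PY n T).Modules} (hF : FlatMod.IsFinLocFree F) {m : ℕ}
    (h : regP n T (KRR.twF n T (m : ℤ) F)) {a b : ℕ} (hab : m ≤ a + b) :
    regP n T (KRR.twF n T (a : ℤ) (KRR.twF n T (b : ℤ) F)) := by
  refine ⟨OX.isFinLocFree_tensor (isFinLocFree_twistOver _) (OX.isFinLocFree_tensor (isFinLocFree_twistOver _) hF),
    isRegSheaf_of_iso ?_ (isRegSheaf_twF_nat h.2 (a + b - m))⟩
  exact (nonempty_twF_twF (a := ((a + b - m : ℕ) : ℤ)) (b := m) (c := ((a + b : ℕ) : ℤ))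
    (by push_cast [Nat.cast_sub hab]; ring) F).some ≪≫
      (nonempty_twF_twF (by push_cast; ring) F).some.symm

theorem psi_succ : ∀ (m : ℕ) (F : (KRR.PY n T).Modules), FlatMod.IsFinLocFree F →
    regP n T (KRR.twF n T (m : ℤ) F) → psi (m + 1) F = psi m F := by
  intro m
  induction m with
  | zero =>
    intro F hF h
    exact (reg_relation (M := F) ⟨hF, isRegSheaf_of_iso (nonempty_twF_zero F).some h.2⟩).symm
  | succ m ih =>
    intro F hF h
    refine Finset.sum_congr rfl fun i _ => congrArg (coef n i • ·) ?_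
    exact ih _ (OX.isFinLocFree_tensor (isFinLocFree_twistOver _) hF) (regP_twF_twF hF h (by omega))

theorem psi_eq_of_le {F : (KRR.PY n T).Modules} (hF : FlatMod.IsFinLocFree F) {m : ℕ}
    (h : regP n T (KRR.twF n T (m : ℤ) F)) : ∀ m', m ≤ m' → psi m' F = psi m F := by
  intro m' hm
  induction hm with
  | refl => rfl
  | @step k hk ih =>
    refine (psi_succ k F hF ?_).trans ih
    exact ⟨OX.isFinLocFree_tensor (isFinLocFree_twistOver _) hF, isRegSheaf_of_iso
      (nonempty_twF_twF (by push_cast [Nat.cast_sub hk]; ring) F).some (isRegSheaf_twF_nat h.2 (k - m))⟩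

theorem psi_add : ∀ (m : ℕ) (S : ShortComplex (KRR.PY n T).Modules), S.ShortExact →
    FlatMod.IsFinLocFree S.X₁ → FlatMod.IsFinLocFree S.X₂ → FlatMod.IsFinLocFree S.X₃ →
    regP n T (KRR.twF n T (m : ℤ) S.X₁) → regP n T (KRR.twF n T (m : ℤ) S.X₂) →
    regP n T (KRR.twF n T (m : ℤ) S.X₃) → psi m S.X₂ = psi m S.X₁ + psi m S.X₃ := by
  intro m
  induction m with
  | zero =>
    intro S hS f₁ f₂ f₃ h₁ h₂ h₃
    exact K0Sub.clSub_add (P := regP n T) hS ⟨f₁, isRegSheaf_of_iso (nonempty_twF_zero _).some h₁.2⟩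
      ⟨f₂, isRegSheaf_of_iso (nonempty_twF_zero _).some h₂.2⟩
      ⟨f₃, isRegSheaf_of_iso (nonempty_twF_zero _).some h₃.2⟩
  | succ m ih =>
    intro S hS f₁ f₂ f₃ h₁ h₂ h₃
    show ∑ i ∈ _, _ = ∑ i ∈ _, _ + ∑ i ∈ _, _
    rw [← Finset.sum_add_distrib]
    refine Finset.sum_congr rfl fun i _ => ?_
    rw [← smul_add]
    refine congrArg (coef n i • ·) (ih _ (twF_map_shortExact ((i + 1 : ℕ) : ℤ) hS) ?_ ?_ ?_ ?_ ?_ ?_)
    · exact OX.isFinLocFree_tensor (isFinLocFree_twistOver _) f₁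
    · exact OX.isFinLocFree_tensor (isFinLocFree_twistOver _) f₂
    · exact OX.isFinLocFree_tensor (isFinLocFree_twistOver _) f₃
    · exact regP_twF_twF f₁ h₁ (by omega)
    · exact regP_twF_twF f₂ h₂ (by omega)
    · exact regP_twF_twF f₃ h₃ (by omega)

/-- Bundles all of whose high twists are regular. -/
def EvReg (n : ℕ) (T : Scheme.{u}) : Prop :=
  ∀ F : (KRR.PY n T).Modules, FlatMod.IsFinLocFree F →
    ∃ m : ℕ, KRR.IsRegSheaf n T (KRR.twF n T (m : ℤ) F)

/-- The inverse to the inclusion. -/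
theorem exists_inverse (hev : EvReg n T) :
    ∃ θ : SGA6.Kvb (KRR.PY n T) →+ Kreg n T,
      (∀ (F : (KRR.PY n T).Modules) (m : ℕ), FlatMod.IsFinLocFree F →
        regP n T (KRR.twF n T (m : ℤ) F) → θ (KRR.cl _ F) = psi m F) := by
  classical
  let φ : (KRR.PY n T).Modules → Kreg n T := fun F =>
    if hF : FlatMod.IsFinLocFree F then psi (hev F hF).choose F else 0
  have hφ : ∀ (F : (KRR.PY n T).Modules) (m : ℕ), FlatMod.IsFinLocFree F →
      regP n T (KRR.twF n T (m : ℤ) F) → φ F = psi m F := by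
    intro F m hF h
    simp only [φ, dif_pos hF]
    have h' : regP n T (KRR.twF n T ((hev F hF).choose : ℤ) F) :=
      ⟨OX.isFinLocFree_tensor (isFinLocFree_twistOver _) hF, (hev F hF).choose_spec⟩
    exact (psi_eq_of_le hF h' _ (le_max_left _ m)).symm.trans (psi_eq_of_le hF h _ (le_max_right _ m))
  obtain ⟨θ, hθ⟩ := K0Sub.exists_lift (P := KRR.vbP (KRR.PY n T)) φ fun S hS f₁ f₂ f₃ => by
    obtain ⟨m₁, h₁⟩ := hev _ f₁
    obtain ⟨m₃, h₃⟩ := hev _ f₃
    let m := max m₁ m₃
    have up : ∀ {F : (KRR.PY n T).Modules} {k : ℕ}, FlatMod.IsFinLocFree F →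
        KRR.IsRegSheaf n T (KRR.twF n T (k : ℤ) F) → k ≤ m → regP n T (KRR.twF n T (m : ℤ) F) :=
      fun {F k} hF hk hkm => ⟨OX.isFinLocFree_tensor (isFinLocFree_twistOver _) hF, isRegSheaf_of_iso
        (nonempty_twF_twF (by push_cast [Nat.cast_sub hkm]; ring) F).some (isRegSheaf_twF_nat hk (m - k))⟩
    have r₁ := up f₁ h₁ (le_max_left _ _)
    have r₃ := up f₃ h₃ (le_max_right _ _)
    have hX := @isRegSheaf_X₂ n T
      (S.map ((DCoh.tensorBi (X := KRR.PY n T)).obj (Twist.twistOver n T (m : ℤ)))) (twF_map_shortExact (m : ℤ) hS)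
    have r₂ : regP n T (KRR.twF n T (m : ℤ) S.X₂) := ⟨OX.isFinLocFree_tensor (isFinLocFree_twistOver _) f₂,
      hX r₁.2 r₃.2⟩
    rw [hφ _ m f₁ r₁, hφ _ m f₂ r₂, hφ _ m f₃ r₃]
    exact psi_add m S hS f₁ f₂ f₃ r₁ r₂ r₃
  exact ⟨θ, fun F m hF h => (hθ F hF).trans (hφ F m hF h)⟩

variable (h : ∀ M : (KRR.PY n T).Modules, regP n T M → FlatMod.IsFinLocFree M)

/-- The inclusion. -/
abbrev incl : Kreg n T →+ SGA6.Kvb (KRR.PY n T) :=
  SGA6.mapSub (𝟭 (KRR.PY n T).Modules) (regP n T) (KRR.vbP (KRR.PY n T)) h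

theorem incl_psi : ∀ (m : ℕ) (F : (KRR.PY n T).Modules), FlatMod.IsFinLocFree F →
    regP n T (KRR.twF n T (m : ℤ) F) → incl h (psi m F) = KRR.cl _ F := by
  intro m
  induction m with
  | zero =>
    intro F hF hr
    exact K0Sub.mapSub_clSub (𝟭 _) (KRR.vbP _) h ⟨hF, isRegSheaf_of_iso (nonempty_twF_zero F).some hr.2⟩
  | succ m ih =>
    intro F hF hr
    show incl h (∑ i ∈ _, _) = _
    rw [map_sum, vb_relation hF]
    refine Finset.sum_congr rfl fun i _ => ?_
    rw [map_zsmul]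
    exact congrArg (coef n i • ·)
      (ih _ (OX.isFinLocFree_tensor (isFinLocFree_twistOver _) hF) (regP_twF_twF hF hr (by omega)))

theorem bijective_incl (hev : EvReg n T) : Function.Bijective (incl h) := by
  obtain ⟨θ, hθ⟩ := exists_inverse hev
  have hl : θ.comp (incl h) = AddMonoidHom.id _ := K0Sub.hom_ext fun F hF => by
    rw [AddMonoidHom.comp_apply, K0Sub.mapSub_clSub _ _ _ hF]
    exact hθ F 0 hF.1 ⟨OX.isFinLocFree_tensor (isFinLocFree_twistOver _) hF.1,
      isRegSheaf_of_iso (nonempty_twF_zero F).some.symm hF.2⟩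
  have hr : (incl h).comp θ = AddMonoidHom.id _ := K0Sub.hom_ext fun F hF => by
    obtain ⟨m, hm⟩ := hev F hF
    rw [AddMonoidHom.comp_apply]
    exact (congrArg (incl h) (hθ F m hF ⟨OX.isFinLocFree_tensor (isFinLocFree_twistOver _) hF, hm⟩)).trans
      (incl_psi h m F hF ⟨OX.isFinLocFree_tensor (isFinLocFree_twistOver _) hF, hm⟩)
  exact ⟨Function.LeftInverse.injective (DFunLike.congr_fun hl),
    Function.RightInverse.surjective (DFunLike.congr_fun hr)⟩

end GrothLib.RegSheaf
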