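import Groth.Agent.Lib.RegSheaf.Eventually
import Groth.Agent.Lib.ProjCohom.Twist
import Groth.Agent.Lib.CMReg.Free
import Groth.Agent.Lib.OX.PullbackTensor
import Groth.Agent.Lib.OX.PullbackFlat
import Groth.Agent.Lib.EulerPull.Basic
import Groth.Agent.Lib.Ample.Generation
import Groth.Agent.Lib.ModDesc.Approx
import Groth.Agent.Lib.QCoh.SupportExact

/-!
# Twists of modules pulled back from the base
-/

universe u

set_option backward.isDefEq.respectTransparency false
set_option linter.style.haveILetI false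

open AlgebraicGeometry CategoryTheory CategoryTheory.Limits TopologicalSpace Opposite

noncomputable section

namespace GrothLib.RegSheaf

theorem spanned_of_isAffine {X : Scheme.{u}} [IsAffine X] (F : X.Modules) [F.IsQuasicoherent] :
    Ample.Spanned F (id : Γ(F, ⊤) → Γ(F, ⊤)) := by
  intro O m x hx
  obtain ⟨f, hfO, hxf⟩ := (isAffineOpen_top X).exists_basicOpen_le (V := O) ⟨x, hx⟩ (Opens.mem_top x)
  refine ⟨X.basicOpen f, hfO, hxf, ?_⟩
  have h := Ample.mem_span_of_basicOpen F (isAffineOpen_top X) f Set.univ Submodule.span_univ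
    (InvExt.mres F hfO m)
  rwa [Set.image_univ] at h

theorem exists_freeMod_epi {X : Scheme.{u}} [IsAffine X] {F : X.Modules} (hF : Coh.IsCoh F) :
    ∃ (k : ℕ) (p : FlatMod.freeMod X k ⟶ F), Epi p := by
  haveI := hF.1
  obtain ⟨k, t, ht⟩ := Ample.exists_finite_spanned F
    (fun _ => ⟨⊤, trivial, fun W hW _ => QCoh.moduleFinite_of_isFiniteType F hF.2 hW⟩) id (spanned_of_isAffine F)
  exact ⟨k, Ample.exists_epi_free _ ht⟩

theorem subsingleton_HH_ring_of_lt {n : ℕ} {R : Type u} [CommRing R] (M : (CohB1.ProjSpace n R).Modules)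
    [M.IsQuasicoherent] {i : ℕ} (hi : n < i) : Subsingleton (Coh.HH (CohB1.ProjSpace n R) M i) := by
  haveI := Chow.isProper_toSpec n R
  haveI : (CohB1.ProjSpace n R).IsSeparated :=
    ⟨by
      rw [show terminal.from (CohB1.ProjSpace n R) = CohB1.ProjSpace.toSpec n R ≫ terminal.from _ from
        Subsingleton.elim _ _]
      infer_instance⟩
  let U : Fin (n + 1) → (CohB1.ProjSpace n R).Opens := fun j =>
    Proj.basicOpen (CohB1.polyGrading n R) (MvPolynomial.X j)
  have h := Cohom.vanishFrom_iSup M IsAffineOpen (fun _ h => h) (fun _ _ h h' => IsAffineOpen.inf h h') (n + 1) U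
    fun j => Proj.isAffineOpen_basicOpen _ _ (Ample.ProjMap.X_mem j) one_pos
  rw [show (⨆ j, U j) = ⊤ from Ample.ProjMap.iSup_basicOpen_X n R] at h
  exact h.subsingleton_HH hi

/-- The twist of a module from the base. -/
abbrev twPull (n : ℕ) (R : Type u) [CommRing R] (d : ℤ) (G : (Spec (CommRingCat.of R)).Modules) :
    (CohB1.ProjSpace n R).Modules :=
  CohB1.tensorMod (Twist.twistProjSpace n R d) ((Scheme.Modules.pullback (CohB1.ProjSpace.toSpec n R)).obj G)

theorem isQuasicoherent_twPull {n : ℕ} {R : Type u} [CommRing R] [IsNoetherianRing R] (d : ℤ)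
    {G : (Spec (CommRingCat.of R)).Modules} (hG : Coh.IsCoh G) : (twPull n R d G).IsQuasicoherent :=
  haveI := Chow.isProper_toSpec n R
  haveI := LocallyOfFiniteType.isLocallyNoetherian (CohB1.ProjSpace.toSpec n R)
  (QCoh.isCoh_of_iso (GrTilde.tensorModComm _ (Twist.twistProjSpace n R d))
    (CMReg.isCoh_tensorMod (ModDesc.isCoh_pullback _ G hG) (ProjPic26.isInvertible_twistProjSpace n R d))).1

theorem subsingleton_HH_twPull {n : ℕ} {R : Type u} [CommRing R] [IsNoetherianRing R] {d : ℤ}
    (hd : -(n : ℤ) ≤ d) :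
    ∀ (j q : ℕ), q + j = n + 1 → 1 ≤ q → ∀ G : (Spec (CommRingCat.of R)).Modules, Coh.IsCoh G →
      Subsingleton (Coh.HH (CohB1.ProjSpace n R) (twPull n R d G) q) := by
  intro j
  induction j with
  | zero =>
    intro q hq _ G hG
    haveI := isQuasicoherent_twPull (n := n) d hG
    exact subsingleton_HH_ring_of_lt _ (by omega)
  | succ j ih =>
    intro q hq h1 G hG
    obtain ⟨k, p, hp⟩ := exists_freeMod_epi hG
    let S := ShortComplex.mk (kernel.ι p) p (kernel.condition p)
    have hS : S.ShortExact := { exact := ShortComplex.exact_of_f_is_kernel _ (kernelIsKernel p) }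
    haveI : Smooth (CohB1.ProjSpace.toSpec n R) := CurveMult.smooth_toSpec n R
    haveI : (Scheme.Modules.pullback (CohB1.ProjSpace.toSpec n R)).Additive :=
      (Scheme.Modules.pullbackPushforwardAdjunction _).left_adjoint_additive
    have h2 := EulerPull.shortExact_pullback (CohB1.ProjSpace.toSpec n R) hS
    have h3 := (ShortComplex.shortExact_iff_of_iso ((S.map (Scheme.Modules.pullback
      (CohB1.ProjSpace.toSpec n R))).mapNatIso (OX.tensorBraiding.app (Twist.twistProjSpace n R d)))).1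
        (OX.tensor_map_shortExact (OX.flat_of_isFinLocFree
          (Euler.isFinLocFree_of_isInvertible (ProjPic26.isInvertible_twistProjSpace n R d))) h2)
    refine CMReg.subsingleton_X₃ h3 ?_ (ih (q + 1) (by omega) (by omega) (kernel p) (QCoh.isCoh_kernel p ?_ hG))
    · refine CMReg.subsingleton_of_iso (?_ : (∐ fun _ : Fin k => Twist.twistProjSpace n R d) ≅ _)
        (CMReg.subsingleton_HH_sigma _ fun _ => ProjCohom.subsingleton_HH (by omega) (by omega))
      exact Sigma.mapIso (fun _ => (OX.tensorUnitLeftIso _).symm ≪≫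
          Ample.LineData.tensorModMapIso (PicLoc.pullbackStructureIso _).symm (Iso.refl _)) ≪≫
        (CMReg.tensorSigmaIso _ _).symm ≪≫
        Ample.LineData.tensorModMapIso (PreservesCoproduct.iso _ _).symm (Iso.refl _) ≪≫
        GrTilde.tensorModComm _ _
    · exact Euler.isCoh_of_isFinLocFree (OX.isFinLocFree_freeMod _ _)

variable {n : ℕ} {Y : Scheme.{u}}

/-- `R^q p_*` kills the twists `≥ -n` of coherent modules from the base. -/
theorem van_twF_pullback [IsLocallyNoetherian Y] {G : Y.Modules} (hG : Coh.IsCoh G) {d : ℤ}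
    (hd : -(n : ℤ) ≤ d) {q : ℕ} (hq : 1 ≤ q) :
    Van (KRR.pr n Y) (KRR.twF n Y d ((Scheme.Modules.pullback (KRR.pr n Y)).obj G)) q := by
  refine Cohom.isZero_RpushAb_of_basis (f := KRR.pr n Y) (Coh.toAb _) q Y.isBasis_affineOpens fun V hV => ?_
  haveI : IsNoetherianRing Γ(Y, V) := IsLocallyNoetherian.component_noetherian ⟨V, hV⟩
  obtain ⟨ω, hω1, hω⟩ := ProjPic26.exists_isPullback_point (n := n) Y (IsAffineOpen.fromSpec hV)
  haveI : IsOpenImmersion ω := MorphismProperty.of_isPullback (P := @IsOpenImmersion) hω.flip inferInstance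
  have hr : ω ''ᵁ ⊤ = KRR.pr n Y ⁻¹ᵁ V := by
    have h2 := IsOpenImmersion.image_preimage_eq_preimage_image_of_isPullback hω.flip ⊤
    rw [Scheme.Hom.preimage_top, Scheme.Hom.image_top_eq_opensRange (IsAffineOpen.fromSpec hV),
      IsAffineOpen.opensRange_fromSpec hV] at h2
    exact h2
  obtain ⟨φ⟩ := ProjCohom.nonempty_pullback_twistOver n Y d hω1
  let M := KRR.twF n Y d ((Scheme.Modules.pullback (KRR.pr n Y)).obj G)
  let G' := (Scheme.Modules.pullback (IsAffineOpen.fromSpec hV)).obj G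
  let e₁ : (Scheme.Modules.pullback ω).obj ((Scheme.Modules.pullback (KRR.pr n Y)).obj G) ≅
      (Scheme.Modules.pullback (CohB1.ProjSpace.toSpec n Γ(Y, V))).obj G' :=
    (Scheme.Modules.pullbackComp ω (KRR.pr n Y)).app G ≪≫ (Scheme.Modules.pullbackCongr hω.w).app G ≪≫
      ((Scheme.Modules.pullbackComp (CohB1.ProjSpace.toSpec n Γ(Y, V)) (IsAffineOpen.fromSpec hV)).app G).symm
  let e₂ : twPull n Γ(Y, V) d G' ≅ M.restrict ω :=
    Ample.LineData.tensorModMapIso φ.symm e₁.symm ≪≫
      (OX.pullTensorIso ω (Twist.twistOver n Y d) ((Scheme.Modules.pullback (KRR.pr n Y)).obj G)).symm ≪≫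
      ((Scheme.Modules.restrictFunctorIsoPullback ω).app M).symm
  have h1 : Subsingleton (Coh.HH (CohB1.ProjSpace n Γ(Y, V)) (M.restrict ω) q) := by
    by_cases hqn : n < q
    · exact CMReg.subsingleton_of_iso e₂ (@subsingleton_HH_ring_of_lt n _ _ _ (isQuasicoherent_twPull d
        (ModDesc.isCoh_pullback (IsAffineOpen.fromSpec hV) G hG)) q hqn)
    · exact CMReg.subsingleton_of_iso e₂ (subsingleton_HH_twPull hd (n + 1 - q) q (by omega) hq _
        (ModDesc.isCoh_pullback (IsAffineOpen.fromSpec hV) G hG))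
  obtain ⟨e⟩ := Cohom.nonempty_ext_image_equiv ω M ⊤ q
  rw [hr] at e
  exact (e.trans (Cohom.HEquivTop _ q).symm).toEquiv.subsingleton

theorem isRegSheaf_twF_one_pullback [IsLocallyNoetherian Y] {G : Y.Modules} (hG : Coh.IsCoh G) :
    KRR.IsRegSheaf n Y (KRR.twF n Y 1 ((Scheme.Modules.pullback (KRR.pr n Y)).obj G)) := by
  intro i hi
  by_cases hin : i ≤ n + 1
  · exact van_of_iso (KRR.pr n Y) (nonempty_twF_twF (by ring) _).some.symm
      (van_twF_pullback (d := -(i : ℤ) + 1) hG (by omega) hi)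
  · haveI := Chow.isProper_toBase n Y
    haveI := LocallyOfFiniteType.isLocallyNoetherian (KRR.pr n Y)
    haveI := (isCoh_twF (isCoh_twF (ModDesc.isCoh_pullback (KRR.pr n Y) G hG) 1) (-(i : ℤ))).1
    exact van_of_lt _ (by omega)

end GrothLib.RegSheaf
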