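import Groth.Agent.Lib.RegSheaf.Acyclic

/-!
# Push-forward on `K` of the twists of the structure sheaf
-/

universe v u

set_option backward.isDefEq.respectTransparency false
set_option linter.style.haveILetI false

open AlgebraicGeometry CategoryTheory CategoryTheory.Limits TopologicalSpace Opposite Finset

noncomputable section

namespace GrothLib.RegSheaf

theorem sum_choose_eq_zero (n j : ℕ) :
    ∑ i ∈ range (n + 2), ((-1 : ℤ) ^ i * (n + 1).choose i) * ((j + i).choose n : ℤ) = 0 := by
  have h := fwdDiff_iter_eq_sum_shift (h := 1) (fun x : ℕ => (x.choose n : ℤ)) (n + 1) j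
  have h0 : (fwdDiff 1)^[n + 1] (fun x : ℕ => (x.choose n : ℤ)) j = 0 := by
    rw [Function.iterate_succ_apply', show (fun x : ℕ => (x.choose n : ℤ)) = fun x => (x.choose (n + 0) : ℤ) from rfl,
      fwdDiff_iter_choose 0 n]
    simp [fwdDiff]
  rw [h0] at h
  refine Eq.trans ?_ (congrArg (fun t : ℤ => (-1) ^ (n + 1) * t) h.symm |>.trans (mul_zero _))
  rw [mul_sum]
  refine sum_congr rfl fun i hi => ?_
  have hi' : i ≤ n + 1 := by have := mem_range.1 hi; omega
  rw [smul_eq_mul, smul_eq_mul, mul_one, ← mul_assoc, ← mul_assoc, ← pow_add]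
  congr 2
  rw [show n + 1 + (n + 1 - i) = i + 2 * (n + 1 - i) by omega, pow_add, pow_mul, neg_one_sq, one_pow, mul_one]

/-- A sequence with vanishing iterated differences starting with `0, …, 0, 1` is `choose`. -/
theorem eq_choose_of_rec {A : Type*} [AddCommGroup A] (one : A) (n : ℕ) (b : ℕ → A)
    (h0 : ∀ k, k < n → b k = 0) (h1 : b n = one)
    (hrec : ∀ j, b j = ∑ i ∈ range (n + 1), coef n i • b (j + (i + 1))) :
    ∀ k, b k = (k.choose n : ℤ) • one := by
  intro k
  induction k using Nat.strong_induction_on with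
  | _ k ih =>
    rcases lt_trichotomy k n with hk | rfl | hk
    · rw [h0 k hk, Nat.choose_eq_zero_of_lt hk, Nat.cast_zero, zero_smul]
    · rw [h1, Nat.choose_self, Nat.cast_one, one_smul]
    · obtain ⟨j, rfl⟩ : ∃ j, k = j + (n + 1) := ⟨k - (n + 1), by omega⟩
      have hr := hrec j
      rw [sum_range_succ, show coef n n = (-1) ^ n by simp [coef],
        sum_congr rfl (fun i hi => congrArg (coef n i • ·)
          (ih (j + (i + 1)) (by have := mem_range.1 hi; omega))), ih j (by omega)] at hr
      simp only [smul_smul, ← sum_smul] at hr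
      have hc := sum_choose_eq_zero n j
      rw [sum_range_succ', sum_range_succ] at hc
      have hc' : ∑ i ∈ range n, coef n i * ((j + (i + 1)).choose n : ℤ) =
          (j.choose n : ℤ) - (-1) ^ n * ((j + (n + 1)).choose n : ℤ) := by
        rw [sum_congr rfl fun i _ => show coef n i * ((j + (i + 1)).choose n : ℤ) =
          -((-1 : ℤ) ^ (i + 1) * (n + 1).choose (i + 1) * ((j + (i + 1)).choose n : ℤ)) by
            simp only [coef, pow_succ]; ring, sum_neg_distrib]
        simp only [pow_succ, Nat.choose_self, pow_zero, Nat.choose_zero_right, Nat.add_zero, Nat.cast_one,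
          one_mul, mul_one] at hc ⊢
        linear_combination -hc
      rw [hc', sub_smul, sub_add, eq_comm, sub_eq_self, sub_eq_zero, mul_smul] at hr
      have hs := congrArg (((-1 : ℤ) ^ n) • ·) hr
      simp only [smul_smul, ← mul_assoc, ← pow_add, ← two_mul, pow_mul, neg_one_sq, one_pow, one_mul,
        one_smul] at hs
      exact hs.symm

variable {n : ℕ} {Y : Scheme.{u}} {KP : Type v} {KY : Type v} [CommRing KP] [CommRing KY]
  [LambdaRing.LambdaOps KP] [LambdaRing.LambdaOps KY] {PY : LambdaRing.PosStructure KY}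
  {φP : SGA6.Kvb (KRR.PY n Y) →+ KP} {φY : SGA6.Kvb Y →+ KY} {g : KP →+ KY}

/-- The push-forward on twists is given by the sections. -/
theorem pushPr_twist [IsNoetherian Y] (hg : KRR.IsPushPr n Y φP φY g) {d : ℤ} (hd : -(n : ℤ) ≤ d) :
    g (φP (KRR.cl _ (KRR.twF n Y d (Coh.structureModule (KRR.PY n Y))))) =
      φY (KRR.cl Y ((Scheme.Modules.pushforward (KRR.pr n Y)).obj
        (KRR.twF n Y d (Coh.structureModule (KRR.PY n Y))))) := by
  obtain ⟨P, hP⟩ := exists_pushK (n := n) (Y := Y)
  have h := hom_ext_reg (f := g.comp φP) (g := φY.comp P) fun F hF => by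
    rw [AddMonoidHom.comp_apply, AddMonoidHom.comp_apply, hg F hF.1 hF.2, hP F hF]
  rw [show g (φP _) = φY (P _) from DFunLike.congr_fun h _]
  refine congrArg φY (push_eq_of_acy hP n _ (fun i => acyP_of_iso
    (nonempty_twF_twF rfl _).some.symm ⟨isFinLocFree_twF regP_structure.1 _,
      fun q hq => van_twistO (by omega) hq⟩) ?_)
  refine isRegSheaf_of_iso (nonempty_twF_twF ?_ _).some.symm (isRegSheaf_twF_nat regP_structure.2 ((n : ℤ) + d).toNat)
  omega

theorem pushPr_twist_neg [IsNoetherian Y] (hg : KRR.IsPushPr n Y φP φY g) {d : ℤ} (hd : -(n : ℤ) ≤ d) (hd' : d < 0) :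
    g (φP (KRR.cl _ (KRR.twF n Y d (Coh.structureModule (KRR.PY n Y))))) = 0 := by
  rw [pushPr_twist hg hd, KRR.cl, K0Sub.clSub_isZero ((isZero_push_twist hd hd').of_iso
    ((Scheme.Modules.pushforward (KRR.pr n Y)).mapIso (nonempty_twF_structure d).some)), map_zero]

theorem pushPr_structure (hKY : KRR.IsModel Y KY PY φY) (hg : KRR.IsPushPr n Y φP φY g) :
    g (φP (KRR.cl _ (Coh.structureModule (KRR.PY n Y)))) = 1 := by
  rw [hg _ regP_structure.1 regP_structure.2, cl_push_structure, hKY.map_one]

theorem pushPr_twist_eq_choose [IsNoetherian Y] (hKY : KRR.IsModel Y KY PY φY)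
    (hg : KRR.IsPushPr n Y φP φY g) (k : ℕ) :
    g (φP (KRR.cl _ (KRR.twF n Y ((k : ℤ) - n) (Coh.structureModule (KRR.PY n Y))))) = (k.choose n : KY) := by
  have h := eq_choose_of_rec (1 : KY) n
    (fun k : ℕ => g (φP (KRR.cl _ (KRR.twF n Y ((k : ℤ) - n) (Coh.structureModule (KRR.PY n Y))))))
    (fun k hk => pushPr_twist_neg hg (by omega) (by omega)) ?_ (fun j => ?_) k
  · rw [h, zsmul_one, Int.cast_natCast]
  · rw [← pushPr_structure (n := n) (φP := φP) hKY hg]
    refine congrArg (g ∘ φP) (clSub_iso (fun _ hZ => DCoh.isFinLocFree_of_isZero hZ) ?_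
      (isFinLocFree_twF regP_structure.1 _) regP_structure.1)
    rw [sub_self]
    exact (nonempty_twF_zero _).some
  · rw [vb_relation (isFinLocFree_twF (regP_structure (n := n) (Y := Y)).1 _), map_sum, map_sum]
    refine sum_congr rfl fun i _ => ?_
    rw [map_zsmul, map_zsmul]
    refine congrArg (fun x => coef n i • g (φP x)) (clSub_iso (fun _ hZ => DCoh.isFinLocFree_of_isZero hZ)
      (nonempty_twF_twF ?_ _).some (isFinLocFree_twF (isFinLocFree_twF regP_structure.1 _) _)
      (isFinLocFree_twF regP_structure.1 _))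
    push_cast; ring

end GrothLib.RegSheaf
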