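import Groth.Agent.Lib.RegSheaf.PushK
import Groth.Agent.S0927
import Groth.Agent.Lib.OX.LocFreeTensor

/-!
# Projection formula for regular bundles
-/

universe v u

set_option backward.isDefEq.respectTransparency false
set_option linter.style.haveILetI false

open AlgebraicGeometry CategoryTheory CategoryTheory.Limits TopologicalSpace Opposite

noncomputable section

namespace GrothLib.RegSheaf

theorem van_of_isZero_Rpush {X Y : Scheme.{u}} (g : X ⟶ Y) [HasInjectiveResolutions X.Modules]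
    (M : X.Modules) (q : ℕ) (h : IsZero ((Coh.Rpush g q).obj M)) : Van g M q := by
  obtain ⟨I⟩ := Cohom.nonempty_flRes M
  obtain ⟨e₁⟩ := Cohom.nonempty_Rpush_iso g I q
  obtain ⟨e₂⟩ := Cohom.nonempty_homology_iso_RpushAb g I q
  exact ((QCoh.toAbFun Y).map_isZero h).of_iso ((QCoh.toAbFun Y).mapIso e₁ ≪≫ e₂).symm

theorem van_pullback_tensor {X Y : Scheme.{u}} (g : X ⟶ Y) {E : Y.Modules} (hE : FlatMod.IsFinLocFree E)
    {M : X.Modules} {q : ℕ} (h : Van g M q) :
    Van g (CohB1.tensorMod ((Scheme.Modules.pullback g).obj E) M) q := by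
  haveI : EnoughInjectives X.Modules := SheafCoh.enoughInjectives_sheafOfModules X.ringCatSheaf
  obtain ⟨e⟩ := Groth.Agent.S0927.result g M E hE q
  exact van_of_isZero_Rpush g _ q ((((DCoh.tensorBi (X := Y)).obj E).map_isZero
    (isZero_Rpush_of_Van g M q h)).of_iso e.symm)

variable {n : ℕ} {Y : Scheme.{u}}

theorem regP_tensor_pullback {F : (KRR.PY n Y).Modules} (hF : regP n Y F) {E : Y.Modules}
    (hE : FlatMod.IsFinLocFree E) :
    regP n Y (CohB1.tensorMod F ((Scheme.Modules.pullback (KRR.pr n Y)).obj E)) := by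
  refine ⟨OX.isFinLocFree_tensor hF.1 (OX.isFinLocFree_pullback _ hE), fun i hi => ?_⟩
  refine van_of_iso (KRR.pr n Y) ?_ (van_pullback_tensor (KRR.pr n Y) hE (hF.2 i hi))
  exact GrTilde.tensorModComm _ _ ≪≫ OX.tensorAssoc (Twist.twistOver n Y (-(i : ℤ))) F _

theorem nonempty_push_tensor_pullback {E : Y.Modules} (hE : FlatMod.IsFinLocFree E) (F : (KRR.PY n Y).Modules) :
    Nonempty ((Scheme.Modules.pushforward (KRR.pr n Y)).obj
        (CohB1.tensorMod F ((Scheme.Modules.pullback (KRR.pr n Y)).obj E)) ≅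
      CohB1.tensorMod ((Scheme.Modules.pushforward (KRR.pr n Y)).obj F) E) :=
  ⟨(Scheme.Modules.pushforward (KRR.pr n Y)).mapIso (GrTilde.tensorModComm _ _) ≪≫
    (@asIso _ _ _ _ (ProjFormula.projHom (KRR.pr n Y) E F) (ProjFormula.isIso_projHom (KRR.pr n Y) hE F)).symm ≪≫
      GrTilde.tensorModComm _ _⟩

theorem pushPr_mul_pull [IsNoetherian Y] {KP : Type v} {KY : Type v} [CommRing KP] [CommRing KY]
    [LambdaRing.LambdaOps KP] [LambdaRing.LambdaOps KY]
    {PP : LambdaRing.PosStructure KP} {PY : LambdaRing.PosStructure KY}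
    {φP : SGA6.Kvb (KRR.PY n Y) →+ KP} (hKP : KRR.IsModel (KRR.PY n Y) KP PP φP)
    {φY : SGA6.Kvb Y →+ KY} (hKY : KRR.IsModel Y KY PY φY)
    {g : KP →+ KY} (hg : KRR.IsPushPr n Y φP φY g) {q : KY →+ KP} (hq : KRR.IsPull (KRR.pr n Y) φY φP q)
    (x : KP) (y : KY) : g (x * q y) = g x * y := by
  obtain ⟨b, rfl⟩ := hKY.bijective.2 y
  have hb := K0Sub.hom_ext (P := KRR.vbP Y) (f := (g.comp (AddMonoidHom.mulLeft x)).comp (q.comp φY))
    (g := (AddMonoidHom.mulLeft (g x)).comp φY) fun E hE => ?_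
  · exact DFunLike.congr_fun hb b
  obtain ⟨a, rfl⟩ := hKP.bijective.2 x
  have ha := hom_ext_reg (f := (g.comp (AddMonoidHom.mulRight (q (φY (KRR.cl Y E))))).comp φP)
    (g := (AddMonoidHom.mulRight (φY (KRR.cl Y E))).comp (g.comp φP)) fun F hF => ?_
  · exact DFunLike.congr_fun ha a
  simp only [AddMonoidHom.comp_apply, AddMonoidHom.mulRight_apply]
  have hFE := regP_tensor_pullback hF hE
  have hmul : φP (KRR.cl _ F) * φP (KRR.cl _ ((Scheme.Modules.pullback (KRR.pr n Y)).obj E)) =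
      φP (KRR.cl _ (CohB1.tensorMod F ((Scheme.Modules.pullback (KRR.pr n Y)).obj E))) :=
    hKP.map_mul _ _ hF.1 (OX.isFinLocFree_pullback _ hE)
  rw [hq E hE, hmul, hg _ hFE.1 hFE.2, hg F hF.1 hF.2, hKY.map_mul _ _ (isFinLocFree_push_reg hF) hE]
  exact congrArg φY (clSub_iso (fun _ hZ => DCoh.isFinLocFree_of_isZero hZ) (nonempty_push_tensor_pullback hE F).some
    (isFinLocFree_push_reg hFE) (OX.isFinLocFree_tensor (isFinLocFree_push_reg hF) hE))

end GrothLib.RegSheaf
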