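import Groth.Agent.Lib.RegSheaf.Counit
import Groth.Agent.Lib.Ample.CocPullback
import Groth.Agent.Lib.Ample.ProjSections
import Groth.Agent.Lib.GrTilde.Amp
import Groth.Agent.Lib.Chow.Prod

/-!
# Regular sheaves on relative projective space: twists, vanishing and generation
-/

universe u

set_option backward.isDefEq.respectTransparency false
set_option linter.style.haveILetI false

open AlgebraicGeometry CategoryTheory CategoryTheory.Limits TopologicalSpace Opposite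
open GrothLib.Ample (Cocycle)
open GrothLib.CMReg (tw twPow Covers)

noncomputable section

namespace GrothLib.RegSheaf

variable (n : ℕ) (T : Scheme.{u})

/-- The projection to `P^n_ℤ`. -/
abbrev toZ : KRR.PY n T ⟶ CohB1.ProjSpace n (ULift.{u} ℤ) :=
  pullback.fst (CohB1.ProjSpace.toSpec n (ULift.{u} ℤ)) (specULiftZIsTerminal.from T)

/-- The cocycle of `O(1)` on `P^n_T`. -/
abbrev cT : Cocycle (KRR.PY n T) := (Ample.ProjMap.pcoc n (ULift.{u} ℤ)).comap (toZ n T)

/-- The coordinates as global sections of `O(1)`, extended by zero. -/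
def aT (l : ℕ) : (cT n T).sect 1 ⊤ :=
  (Ample.ProjMap.pcoc n (ULift.{u} ℤ)).pullSect (toZ n T) (le_top : (⊤ : (KRR.PY n T).Opens) ≤ toZ n T ⁻¹ᵁ ⊤)
    (if h : l < n + 1 then
      (Ample.ProjMap.pcocIso n (ULift.{u} ℤ)).hom.app ⊤ (ProjUP.coord n (ULift.{u} ℤ) ⟨l, h⟩) else 0)

theorem locus_aT {l : ℕ} (h : l < n + 1) :
    (cT n T).locus (aT n T l) =
      toZ n T ⁻¹ᵁ Proj.basicOpen (CohB1.polyGrading n (ULift.{u} ℤ)) (MvPolynomial.X (⟨l, h⟩ : Fin (n + 1))) := by
  refine ((Ample.ProjMap.pcoc n (ULift.{u} ℤ)).locus_pullSect (toZ n T) _).trans (congrArg (toZ n T ⁻¹ᵁ ·) ?_)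
  rw [dif_pos h]
  exact GrTilde.locus_eq_basicOpen (𝒜 := CohB1.polyGrading n (ULift.{u} ℤ)) (N := 1) h1 _
    (Ample.ProjMap.pcocIso n _) (Ample.ProjMap.X_mem _)

theorem covers : Covers (cT n T) (aT n T) (n + 1) := by
  intro x
  obtain ⟨i, hi⟩ := Opens.mem_iSup.mp
    ((Ample.ProjMap.iSup_basicOpen_X n (ULift.{u} ℤ)).ge (Opens.mem_top (toZ n T x)))
  refine ⟨i, i.2, ?_⟩
  rw [locus_aT n T i.2]
  exact hi

theorem isAffineOpen_inf_locus {V : T.Opens} (hV : IsAffineOpen V) {l : ℕ} (h : l < n + 1) :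
    IsAffineOpen (KRR.pr n T ⁻¹ᵁ V ⊓ (cT n T).locus (aT n T l)) := by
  rw [locus_aT n T h]
  let U := KRR.pr n T ⁻¹ᵁ V
  haveI : IsAffine V.toScheme := hV
  haveI : IsAffineHom (U.ι ≫ toZ n T) :=
    MorphismProperty.of_isPullback (P := @IsAffineHom)
      ((isPullback_morphismRestrict (KRR.pr n T) V).flip.paste_horiz
        (IsPullback.of_hasPullback (CohB1.ProjSpace.toSpec n (ULift.{u} ℤ))
          (specULiftZIsTerminal.from T))).flip inferInstance
  have h2 := ((Proj.isAffineOpen_basicOpen (CohB1.polyGrading n (ULift.{u} ℤ))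
    (MvPolynomial.X (⟨l, h⟩ : Fin (n + 1))) (Ample.ProjMap.X_mem _) one_pos).preimage (U.ι ≫ toZ n T))
  rw [Scheme.Hom.comp_preimage] at h2
  have h3 := h2.image_of_isOpenImmersion U.ι
  rwa [Scheme.Hom.image_preimage_eq_opensRange_inf, Scheme.Opens.opensRange_ι] at h3

instance quasiCompact_pr : QuasiCompact (KRR.pr n T) :=
  haveI := Chow.isProper_toBase n T
  inferInstanceAs (QuasiCompact (CohB1.ProjSpaceOver.toBase n T))

instance quasiSeparated_pr : QuasiSeparated (KRR.pr n T) :=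
  haveI := Chow.isProper_toBase n T
  inferInstanceAs (QuasiSeparated (CohB1.ProjSpaceOver.toBase n T))

theorem nonempty_twist_iso : Nonempty (Twist.twistOver n T 1 ≅ (cT n T).twist 1) :=
  (Ample.ProjMap.pcoc n (ULift.{u} ℤ)).nonempty_pullback_iso (toZ n T) (Ample.ProjMap.pcocIso n _)

variable {n T}

theorem nonempty_tw_iso (M : (KRR.PY n T).Modules) :
    Nonempty ((tw (cT n T)).obj M ≅ KRR.twF n T 1 M) := by
  obtain ⟨e⟩ := (cT n T).nonempty_tensor_modTwist M 1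
  obtain ⟨g⟩ := nonempty_twist_iso n T
  exact ⟨e.symm ≪≫ Ample.LineData.tensorModMapIso (Iso.refl M) g.symm ≪≫
    GrTilde.tensorModComm M (Twist.twistOver n T 1)⟩

theorem nonempty_twPow_twF : ∀ (s : ℕ) (d e : ℤ) (M : (KRR.PY n T).Modules), d + s = e →
    Nonempty ((twPow (cT n T) s).obj (KRR.twF n T d M) ≅ KRR.twF n T e M) := by
  intro s
  induction s with
  | zero =>
    intro d e M h
    obtain rfl : d = e := by simpa using h
    exact ⟨Iso.refl _⟩
  | succ s ih =>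
    intro d e M h
    obtain ⟨g⟩ := nonempty_tw_iso (KRR.twF n T d M)
    obtain ⟨g'⟩ := nonempty_twF_twF (a := 1) (b := d) (c := 1 + d) rfl M
    obtain ⟨g''⟩ := ih (1 + d) e M (by rw [← h]; push_cast; ring)
    exact ⟨(twPow (cT n T) s).mapIso (g ≪≫ g') ≪≫ g''⟩

theorem van_of_reg_step {F : (KRR.PY n T).Modules} (h : KRR.IsRegSheaf n T F) :
    KRR.IsRegSheaf n T (KRR.twF n T 1 F) := by
  intro i hi
  obtain ⟨k, rfl⟩ : ∃ k, i = k + 1 := ⟨i - 1, by omega⟩
  refine van_of_iso (KRR.pr n T) (((nonempty_twPow_twF (n + 1) (-((k : ℤ) + 1 + n)) (-(k : ℤ)) F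
    (by push_cast; ring)).some) ≪≫ (nonempty_twF_twF (by push_cast; ring) F).some.symm) ?_
  refine van_twPow (KRR.pr n T) (covers n T) _ fun s hs => ?_
  obtain ⟨g⟩ := nonempty_twPow_twF s (-((k : ℤ) + 1 + n)) (-((k + 1 + (n + 1 - 1 - s) : ℕ) : ℤ)) F (by
    push_cast [Nat.cast_sub (show s ≤ n by omega)]; ring_nf)
  exact van_of_iso (KRR.pr n T) g.symm (h _ (by omega))

theorem isRegSheaf_of_iso {F G : (KRR.PY n T).Modules} (e : F ≅ G) (h : KRR.IsRegSheaf n T F) :
    KRR.IsRegSheaf n T G := fun i hi =>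
  van_of_iso (KRR.pr n T) (((DCoh.tensorBi (X := KRR.PY n T)).obj _).mapIso e) (h i hi)

theorem isRegSheaf_twF_nat {F : (KRR.PY n T).Modules} (h : KRR.IsRegSheaf n T F) (m : ℕ) :
    KRR.IsRegSheaf n T (KRR.twF n T (m : ℤ) F) := by
  induction m with
  | zero => exact isRegSheaf_of_iso (nonempty_twF_zero F).some.symm h
  | succ m ih =>
    exact isRegSheaf_of_iso (nonempty_twF_twF (by push_cast; ring) F).some (van_of_reg_step ih)

theorem van_of_reg {F : (KRR.PY n T).Modules} (h : KRR.IsRegSheaf n T F) {i : ℕ} (hi : 1 ≤ i) {d : ℤ}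
    (hd : -(i : ℤ) ≤ d) : Van (KRR.pr n T) (KRR.twF n T d F) i :=
  van_of_iso (KRR.pr n T) (nonempty_twF_twF (a := -(i : ℤ)) (b := ((d + i).toNat : ℤ)) (by omega) F).some
    (isRegSheaf_twF_nat h (d + i).toNat i hi)

theorem van_zero_twist {F : (KRR.PY n T).Modules} (h : KRR.IsRegSheaf n T F) {i : ℕ} (hi : 1 ≤ i) :
    Van (KRR.pr n T) F i :=
  van_of_iso (KRR.pr n T) (nonempty_twF_zero F).some (van_of_reg h hi (by omega))

theorem joint_of_reg {F : (KRR.PY n T).Modules} (h : KRR.IsRegSheaf n T F) (b : ℕ) :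
    Joint (KRR.pr n T) (cT n T) (aT n T) n ((twPow (cT n T) b).obj F) := by
  let M := KRR.twF n T ((b : ℤ) - n) F
  obtain ⟨g₁⟩ := nonempty_twPow_twF n ((b : ℤ) - n) b F (by ring)
  obtain ⟨g₂⟩ := nonempty_twPow_twF b 0 b F (by ring)
  refine joint_of_iso (KRR.pr n T) (cT n T) (aT n T)
    (g₁ ≪≫ g₂.symm ≪≫ (twPow (cT n T) b).mapIso (nonempty_twF_zero F).some)
    (joint_twPow (KRR.pr n T) (covers n T) M fun s hs => ?_)
  obtain ⟨g⟩ := nonempty_twPow_twF s ((b : ℤ) - n) ((b : ℤ) - n + s) F rfl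
  exact van_of_iso (KRR.pr n T) g.symm (van_of_reg h (by omega) (by omega))

theorem epi_counit {F : (KRR.PY n T).Modules} [F.IsQuasicoherent] (h : KRR.IsRegSheaf n T F) :
    Epi ((Scheme.Modules.pullbackPushforwardAdjunction (KRR.pr n T)).counit.app F) :=
  epi_ev (KRR.pr n T) (covers n T) (fun _ hV _ hl => isAffineOpen_inf_locus n T hV hl) F
    (joint_of_reg h)

end GrothLib.RegSheaf
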