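import Groth.Agent.Lib.RegSheaf.DerivedX1
import Groth.Agent.Lib.GrothSS.Acyclic
import Groth.Agent.Lib.QCoh.ToSheaf
import Groth.Agent.Lib.OX.Tensor
import Groth.Agent.Lib.OX.TensorAssoc
import Groth.Agent.Lib.OX.PullbackTensor
import Groth.Agent.Lib.GrTilde.Mul
import Groth.Agent.Lib.Ample.ProjAmple
import Groth.Agent.Lib.OX.LocFreeTensor
import Groth.Agent.Lib.Euler.TensorSupport
import Groth.Prelude.Def_PicLoc
import Groth.Prelude.Def_KRR

/-!
# Twists on relative projective space and regularity along short exact sequences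
-/

set_option autoImplicit false
universe u

open CategoryTheory CategoryTheory.Limits AlgebraicGeometry MvPolynomial

namespace GrothLib.RegSheaf

variable {n : ℕ} {T : Scheme.{u}}

instance preservesFiniteLimits_pushAb {X Y : Scheme.{u}} (f : X ⟶ Y) :
    PreservesFiniteLimits (Coh.pushAb f) :=
  have : PreservesLimitsOfSize.{0, 0} (Coh.pushAb f) :=
    (TopCat.Sheaf.pullbackPushforwardAdjunction AddCommGrpCat.{u} f.base).rightAdjoint_preservesLimits
  PreservesLimitsOfSize.preservesFiniteLimits.{0, 0} _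

theorem h1 (p : Proj (CohB1.polyGrading n (ULift.{u} ℤ))) :
    ∃ f : MvPolynomial (Fin (n + 1)) (ULift.{u} ℤ),
      f ∈ CohB1.polyGrading n (ULift.{u} ℤ) 1 ∧ f ∉ p.asHomogeneousIdeal := by
  obtain ⟨i, hi⟩ := (Ample.ProjMap.pcoc n (ULift.{u} ℤ)).exists_mem p
  exact ⟨X i.down, Ample.ProjMap.X_mem i.down, hi⟩

theorem isFinLocFree_twistOver (d : ℤ) : FlatMod.IsFinLocFree (Twist.twistOver n T d) :=
  Euler.isFinLocFree_of_isInvertible
    (Ample.isInvertible_pullback _ (GrTilde.isInvertible_twist h1 d))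

theorem nonempty_twist_add {a b c : ℤ} (h : a + b = c) :
    Nonempty (CohB1.tensorMod (Twist.twistOver n T a) (Twist.twistOver n T b) ≅ Twist.twistOver n T c) := by
  subst h
  obtain ⟨e⟩ := GrTilde.nonempty_twist_tensor_twist (h1 (n := n)) a b
  exact ⟨(OX.pullTensorIso _ _ _).symm ≪≫ (Scheme.Modules.pullback _).mapIso e⟩

theorem nonempty_twF_twF {a b c : ℤ} (h : a + b = c) (F : (KRR.PY n T).Modules) :
    Nonempty (KRR.twF n T a (KRR.twF n T b F) ≅ KRR.twF n T c F) := by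
  obtain ⟨e⟩ := nonempty_twist_add (n := n) (T := T) h
  exact ⟨(OX.tensorAssoc (Twist.twistOver n T a) (Twist.twistOver n T b) F).symm ≪≫
    ((DCoh.tensorBi (X := KRR.PY n T)).mapIso e).app F⟩

theorem nonempty_twF_zero (F : (KRR.PY n T).Modules) : Nonempty (KRR.twF n T 0 F ≅ F) := by
  obtain ⟨e⟩ := GrTilde.nonempty_structureModule_iso_twist_zero (CohB1.polyGrading n (ULift.{u} ℤ))
  exact ⟨((DCoh.tensorBi (X := KRR.PY n T)).mapIso
    ((Scheme.Modules.pullback _).mapIso e.symm ≪≫ PicLoc.pullbackStructureIso _)).app F ≪≫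
    OX.tensorUnitLeftIso F⟩

theorem twF_map_shortExact (d : ℤ) {S : ShortComplex (KRR.PY n T).Modules} (hS : S.ShortExact) :
    (S.map ((DCoh.tensorBi (X := KRR.PY n T)).obj (Twist.twistOver n T d))).ShortExact :=
  (ShortComplex.shortExact_iff_of_iso (S.mapNatIso (OX.tensorBraiding.app (Twist.twistOver n T d)))).1
    (OX.tensor_map_shortExact (OX.flat_of_isFinLocFree (isFinLocFree_twistOver d)) hS)

theorem toAb_twF_shortExact (d : ℤ) {S : ShortComplex (KRR.PY n T).Modules} (hS : S.ShortExact) :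
    ((S.map ((DCoh.tensorBi (X := KRR.PY n T)).obj (Twist.twistOver n T d))).map
      (QCoh.toAbFun (KRR.PY n T))).ShortExact :=
  QCoh.toAbFun_map_shortExact _ (twF_map_shortExact d hS)

theorem isZero_twF_twF {a b c : ℤ} (h : a + b = c) {F : (KRR.PY n T).Modules} {i : ℕ}
    (hz : IsZero ((Coh.RpushAb (KRR.pr n T) i).obj (Coh.toAb (KRR.twF n T a (KRR.twF n T b F))))) :
    IsZero ((Coh.RpushAb (KRR.pr n T) i).obj (Coh.toAb (KRR.twF n T c F))) :=
  hz.of_iso ((Coh.RpushAb (KRR.pr n T) i).mapIso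
    ((QCoh.toAbFun _).mapIso (nonempty_twF_twF h F).some.symm))

theorem isRegSheaf_X₂ {S : ShortComplex (KRR.PY n T).Modules} (hS : S.ShortExact)
    (h₁ : KRR.IsRegSheaf n T S.X₁) (h₃ : KRR.IsRegSheaf n T S.X₃) : KRR.IsRegSheaf n T S.X₂ := by
  intro i hi
  obtain ⟨k, rfl⟩ : ∃ k, i = k + 1 := ⟨i - 1, by omega⟩
  exact HomGamma.isZero_rightDerived_X₂ (Coh.pushAb (KRR.pr n T)) k _ (toAb_twF_shortExact _ hS)
    (h₁ (k + 1) hi) (h₃ (k + 1) hi)

theorem isRegSheaf_X₃ {S : ShortComplex (KRR.PY n T).Modules} (hS : S.ShortExact)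
    (h₂ : KRR.IsRegSheaf n T S.X₂) (h₁ : KRR.IsRegSheaf n T (KRR.twF n T 1 S.X₁)) :
    KRR.IsRegSheaf n T S.X₃ := by
  intro i hi
  obtain ⟨k, rfl⟩ : ∃ k, i = k + 1 := ⟨i - 1, by omega⟩
  exact GrothSS.isZero_rightDerived_X₃ (Coh.pushAb (KRR.pr n T)) k _ (toAb_twF_shortExact _ hS)
    (isZero_twF_twF (by push_cast; ring) (h₁ (k + 2) (by omega))) (h₂ (k + 1) hi)

theorem isRegSheaf_twF_one_X₁ {S : ShortComplex (KRR.PY n T).Modules} (hS : S.ShortExact)
    (h₂ : KRR.IsRegSheaf n T (KRR.twF n T 1 S.X₂)) (h₃ : KRR.IsRegSheaf n T S.X₃)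
    [Epi ((Scheme.Modules.pushforward (KRR.pr n T)).map S.g)] :
    KRR.IsRegSheaf n T (KRR.twF n T 1 S.X₁) := by
  intro i hi
  obtain ⟨k, rfl⟩ : ∃ k, i = k + 1 := ⟨i - 1, by omega⟩
  rcases k with _ | k
  · have hz : IsZero ((Coh.RpushAb (KRR.pr n T) 1).obj (Coh.toAb S.X₂)) := by
      refine (h₂ 1 le_rfl).of_iso ((Coh.RpushAb (KRR.pr n T) 1).mapIso ((QCoh.toAbFun _).mapIso ?_))
      refine ?_ ≪≫ (nonempty_twF_twF (a := (-(1 : ℕ) : ℤ)) (b := 1) (c := 0) (by norm_num) S.X₂).some.symm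
      exact (nonempty_twF_zero S.X₂).some.symm
    haveI : Epi ((Coh.pushAb (KRR.pr n T)).map (S.map (QCoh.toAbFun (KRR.PY n T))).g) := by
      have : PreservesFiniteColimits (QCoh.toAbFun T) :=
        QCoh.toSheaf_preservesFiniteColimits (R := T.ringCatSheaf)
      exact inferInstanceAs (Epi ((QCoh.toAbFun T).map ((Scheme.Modules.pushforward (KRR.pr n T)).map S.g)))
    have h := isZero_rightDerived_X₁_one (Coh.pushAb (KRR.pr n T)) _
      (QCoh.toAbFun_map_shortExact _ hS) hz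
    refine h.of_iso ((Coh.RpushAb (KRR.pr n T) 1).mapIso ((QCoh.toAbFun _).mapIso ?_))
    exact (nonempty_twF_twF (a := (-((0 + 1 : ℕ)) : ℤ)) (b := 1) (c := 0) (by norm_num) S.X₁).some ≪≫
      (nonempty_twF_zero S.X₁).some
  · have key := isZero_rightDerived_X₁ (Coh.pushAb (KRR.pr n T)) k _
      (toAb_twF_shortExact (-((k + 1 : ℕ) : ℤ)) hS)
      (isZero_twF_twF (by push_cast; ring) (h₂ (k + 2) (by omega))) (h₃ (k + 1) (by omega))
    exact key.of_iso ((Coh.RpushAb (KRR.pr n T) (k + 2)).mapIso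
      ((QCoh.toAbFun _).mapIso (nonempty_twF_twF (by push_cast; ring) S.X₁).some))

end GrothLib.RegSheaf
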