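import Groth.Agent.Lib.RegSheaf.PushK
import Groth.Agent.Lib.ProjCohom.Twist
import Groth.Agent.Lib.Seesaw26.TrivOpen
import Groth.Agent.Lib.Seesaw26.Universal
import Mathlib.Algebra.Group.ForwardDiff

/-!
# Push-forward on `K` of acyclic bundles and of the twists
-/

universe v u

set_option backward.isDefEq.respectTransparency false
set_option linter.style.haveILetI false

open AlgebraicGeometry CategoryTheory CategoryTheory.Limits TopologicalSpace Opposite
open GrothLib.CMReg (twPow)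

noncomputable section

namespace GrothLib.RegSheaf

variable {n : ℕ} {Y : Scheme.{u}}

/-- Bundles without higher direct images. -/
abbrev acyP (n : ℕ) (Y : Scheme.{u}) : ObjectProperty (KRR.PY n Y).Modules :=
  fun M => FlatMod.IsFinLocFree M ∧ ∀ q, 0 < q → Van (KRR.pr n Y) M q

theorem acyP_of_isZero {Z : (KRR.PY n Y).Modules} (hZ : IsZero Z) : acyP n Y Z :=
  ⟨DCoh.isFinLocFree_of_isZero hZ, fun q _ => van_of_isZero (KRR.pr n Y) hZ q⟩

theorem acyP_biprod (A B : (KRR.PY n Y).Modules) (hA : acyP n Y A) (hB : acyP n Y B) : acyP n Y (A ⊞ B) := by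
  refine ⟨DCoh.isFinLocFree_biprod hA.1 hB.1, fun q hq => ?_⟩
  obtain ⟨k, rfl⟩ : ∃ k, q = k + 1 := ⟨q - 1, by omega⟩
  exact van_biprod (KRR.pr n Y) (hA.2 _ hq) (hB.2 _ hq)

theorem acyP_of_iso {F G : (KRR.PY n Y).Modules} (e : F ≅ G) (h : acyP n Y F) : acyP n Y G :=
  ⟨DCoh.isFinLocFree_of_iso e h.1, fun q hq => van_of_iso (KRR.pr n Y) e (h.2 q hq)⟩

theorem acyP_of_reg {F : (KRR.PY n Y).Modules} (h : regP n Y F) : acyP n Y F :=
  ⟨h.1, fun _ hq => van_zero_twist h.2 hq⟩

theorem acy_relation {M : (KRR.PY n Y).Modules} (h : ∀ i, i ≤ n + 1 → acyP n Y (KRR.twF n Y (i : ℤ) M)) :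
    KZero.clSub (acyP n Y) M =
      ∑ i ∈ Finset.range (n + 1), coef n i • KZero.clSub (acyP n Y) (KRR.twF n Y ((i + 1 : ℕ) : ℤ) M) := by
  have hM : FlatMod.IsFinLocFree M :=
    DCoh.isFinLocFree_of_iso (nonempty_twF_zero M).some (h 0 (Nat.zero_le _)).1
  have hP : ∀ i, i ≤ n + 1 → acyP n Y ((twPow (cT n Y) i).obj M) := fun i hi =>
    acyP_of_iso (nonempty_twPow_iso M i).some.symm (h i hi)
  have e := koszul_relation (covers n Y) (acyP n Y) (fun _ hZ => acyP_of_isZero hZ) acyP_biprod M hP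
    fun j hj => ⟨isFinLocFree_cyc hM (n + 1 - j) j (by omega), fun q hq => by
      obtain ⟨k, rfl⟩ : ∃ k, q = k + 1 := ⟨q - 1, by omega⟩
      exact van_cyc (KRR.pr n Y) (covers n Y) M j k fun s hs => (hP s (by omega)).2 _ (by omega)⟩
  rw [Finset.sum_range_succ', add_comm] at e
  rw [pow_zero, Nat.choose_zero_right, Nat.cast_one, mul_one, one_smul] at e
  refine (eq_neg_of_add_eq_zero_left e).trans ?_
  rw [← Finset.sum_neg_distrib]
  refine Finset.sum_congr rfl fun i hi => ?_
  have hi' : i + 1 ≤ n + 1 := by have := Finset.mem_range.1 hi; omega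
  rw [← neg_smul, clSub_iso (fun _ hZ => acyP_of_isZero hZ) (nonempty_twPow_iso M (i + 1)).some (hP _ hi')
    (h _ hi')]
  congr 1
  rw [coef, pow_succ]; ring

/-- The push-forward on acyclic bundles. -/
theorem push_eq_of_acy {P : SGA6.Kvb (KRR.PY n Y) →+ SGA6.Kvb Y}
    (hP : ∀ F : (KRR.PY n Y).Modules, regP n Y F →
      P (KRR.cl _ F) = KRR.cl Y ((Scheme.Modules.pushforward (KRR.pr n Y)).obj F)) :
    ∀ (m : ℕ) (F : (KRR.PY n Y).Modules), (∀ i : ℕ, acyP n Y (KRR.twF n Y (i : ℤ) F)) →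
      KRR.IsRegSheaf n Y (KRR.twF n Y (m : ℤ) F) →
        P (KRR.cl _ F) = KRR.cl Y ((Scheme.Modules.pushforward (KRR.pr n Y)).obj F) := by
  intro m
  induction m with
  | zero =>
    intro F h hr
    exact hP F ⟨DCoh.isFinLocFree_of_iso (nonempty_twF_zero F).some (h 0).1,
      isRegSheaf_of_iso (nonempty_twF_zero F).some hr⟩
  | succ m ih =>
    intro F h hr
    have hF : acyP n Y F := acyP_of_iso (nonempty_twF_zero F).some (h 0)
    obtain ⟨ψ, hψ⟩ := K0Sub.exists_lift (P := acyP n Y)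
      (fun F => KRR.cl Y ((Scheme.Modules.pushforward (KRR.pr n Y)).obj F)) fun S hS h₁ h₂ h₃ =>
        K0Sub.clSub_add (P := KRR.vbP Y)
          (shortExact_map_pushforward (KRR.pr n Y) hS (h₁.2 1 one_pos))
          (isFinLocFree_push h₁.1 h₁.2) (isFinLocFree_push h₂.1 h₂.2) (isFinLocFree_push h₃.1 h₃.2)
    refine Eq.trans ?_ (hψ F hF)
    rw [vb_relation hF.1, acy_relation fun i _ => h i, map_sum, map_sum]
    refine Finset.sum_congr rfl fun i _ => ?_
    rw [map_zsmul, map_zsmul, hψ _ (h (i + 1))]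
    refine congrArg (coef n i • ·) (ih _ (fun j => ?_) ?_)
    · exact acyP_of_iso (nonempty_twF_twF (by push_cast; ring) F).some.symm (h (j + (i + 1)))
    · exact isRegSheaf_of_iso ((nonempty_twF_twF (a := (i : ℤ)) (b := ((m + 1 : ℕ) : ℤ))
        (c := ((m + (i + 1) : ℕ) : ℤ)) (by push_cast; ring) F).some ≪≫
        (nonempty_twF_twF (by push_cast; ring) F).some.symm) (isRegSheaf_twF_nat hr i)

/-! ### The twists of the structure sheaf -/

theorem nonempty_twF_structure (d : ℤ) :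
    Nonempty (KRR.twF n Y d (Coh.structureModule (KRR.PY n Y)) ≅ Twist.twistOver n Y d) :=
  ⟨GrTilde.tensorModComm (Twist.twistOver n Y d) _ ≪≫ OX.tensorUnitLeftIso _⟩

theorem van_twistO {d : ℤ} (hd : -(n : ℤ) ≤ d) {q : ℕ} (hq : 0 < q) :
    Van (KRR.pr n Y) (KRR.twF n Y d (Coh.structureModule (KRR.PY n Y))) q :=
  van_of_iso (KRR.pr n Y) (nonempty_twF_structure d).some.symm
    (ProjCohom.isZero_RpushAb_twistOver Y n q d (by omega))

theorem regP_structure : regP n Y (Coh.structureModule (KRR.PY n Y)) := by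
  refine ⟨Euler.isFinLocFree_of_isInvertible Euler.isInvertible_structure, fun i hi => ?_⟩
  exact van_of_iso (KRR.pr n Y) (nonempty_twF_structure (-(i : ℤ))).some.symm
    (ProjCohom.isZero_RpushAb_twistOver Y n i (-(i : ℤ)) (by omega))

theorem nonempty_push_structure :
    Nonempty (Coh.structureModule Y ≅
      (Scheme.Modules.pushforward (KRR.pr n Y)).obj (Coh.structureModule (KRR.PY n Y))) := by
  haveI : GeometricallyIntegral (KRR.pr n Y) := ProjPic26.geometricallyIntegral_toBase Y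
  have h := Seesaw26.invertible_push_structure (KRR.pr n Y) (Seesaw26.h0_of_geometricallyIntegral (KRR.pr n Y))
  haveI : IsIso (ClSub.unitToPush (KRR.pr n Y)) := (OX.isIso_iff _).2 fun y => by
    obtain ⟨V, e, hyV, he⟩ := InvExt.exists_gen_nhd h y
    refine ProjFormula.stalkIsoOn_of_bijective (U := V) (fun W hW => ?_) y hyV
    exact Seesaw26.bijective_app_of_invertible (KRR.pr n Y) h W
  exact ⟨asIso (ClSub.unitToPush (KRR.pr n Y))⟩

theorem cl_push_structure :
    KRR.cl Y ((Scheme.Modules.pushforward (KRR.pr n Y)).obj (Coh.structureModule (KRR.PY n Y))) =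
      KRR.cl Y (Coh.structureModule Y) :=
  (clSub_iso (fun _ hZ => DCoh.isFinLocFree_of_isZero hZ) nonempty_push_structure.some
    (Euler.isFinLocFree_of_isInvertible Euler.isInvertible_structure) (isFinLocFree_push_reg regP_structure)).symm

theorem isZero_push_twist {d : ℤ} (hd' : -(n : ℤ) ≤ d) (hd : d < 0) :
    IsZero ((Scheme.Modules.pushforward (KRR.pr n Y)).obj (Twist.twistOver n Y d)) := by
  have h : IsZero ((Coh.pushAb (KRR.pr n Y)).obj (Coh.toAb (Twist.twistOver n Y d))) :=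
    (ProjCohom.isZero_RpushAb_twistOver Y n 0 d (by omega)).of_iso
      ((Coh.pushAb (KRR.pr n Y)).rightDerivedZeroIsoSelf.app _).symm
  have : (QCoh.toAbFun Y).Faithful := inferInstanceAs (SheafOfModules.toSheaf _).Faithful
  exact (IsZero.iff_id_eq_zero _).2 ((QCoh.toAbFun Y).map_injective (h.eq_of_src _ _))

end GrothLib.RegSheaf
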