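import Groth.Agent.Lib.RegSheaf.Extend
import Groth.Agent.Lib.CMReg.Chase

/-!
# Iterated multiplication by a section
-/

universe u

set_option backward.isDefEq.respectTransparency false
set_option linter.style.haveILetI false

open AlgebraicGeometry CategoryTheory CategoryTheory.Limits TopologicalSpace Opposite
open GrothLib.InvExt (mres)
open GrothLib.Ample (Cocycle res)
open GrothLib.Ample
open GrothLib.CMReg (tw twPow raise)

noncomputable section

namespace GrothLib.RegSheaf

variable {X : Scheme.{u}} (c : Cocycle X)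

/-- Iterated multiplication by `a`. -/
def rho (a : c.sect 1 ⊤) : ∀ (m : ℕ) (M : X.Modules), M ⟶ (twPow c m).obj M
  | 0, M => 𝟙 M
  | m + 1, M => raise c a M ≫ rho a m ((tw c).obj M)

/-- Twisted families give sections of iterated twists. -/
def phi : ∀ (m : ℕ) (M : X.Modules), c.modTwist M (m + 1) ⟶ (twPow c (m + 1)).obj M
  | 0, M => 𝟙 ((tw c).obj M)
  | m + 1, M => inv (SerreVanish.twistTwist c M (m + 1) (p := 1) (q := m + 1 + 1) rfl) ≫ phi m ((tw c).obj M)

theorem phi_rpow (a : c.sect 1 ⊤) : ∀ (m : ℕ) (M : X.Modules) (V : X.Opens) (z : Γ(M, V)),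
    (phi c m M).app V (rpow c a (m + 1) z) = (rho c a (m + 1) M).app V z := by
  intro m
  induction m with
  | zero =>
    intro M V z
    show ((𝟙 ((tw c).obj M) : _ ⟶ _)).app V (rpow c a 1 z) = ((raise c a M ≫ 𝟙 _).app V) z
    rw [Category.comp_id, Scheme.Modules.Hom.id_app]
    refine c.msect_ext fun i => ?_
    exact (congrArg (· • mres M inf_le_left z) (pow_one _)).trans rfl
  | succ m ih =>
    intro M V z
    have key : (inv (SerreVanish.twistTwist c M (m + 1) (p := 1) (q := m + 1 + 1) rfl)).app V
        (rpow c a (m + 1 + 1) z) = rpow c a (m + 1) ((raise c a M).app V z) := by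
      refine (SerreVanish.twistTwist_app_bijective c M (m + 1) rfl V).1 ?_
      rw [← ConcreteCategory.comp_apply, ← Scheme.Modules.Hom.comp_app, IsIso.inv_hom_id]
      refine c.msect_ext fun i => ?_
      symm
      refine (SerreVanish.twistTwist_app c M (m + 1) rfl _ i).trans ?_
      show mres M _ ((show c.msect M 1 (V ⊓ c.D i) from
        res (inf_le_inf_right (c.D i) (le_top : V ≤ ⊤)) (a.1 i) ^ (m + 1) •
          c.msectRes inf_le_left (show c.msect M 1 V from (raise c a M).app V z)).1 i) = _
      rw [c.msmul_apply, c.msectRes_apply, CMReg.raise_app_apply, mres_smul', mres_smul', mres_smul',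
        InvExt.mres_mres, InvExt.mres_mres, smul_smul]
      simp only [map_pow, res_res]
      rw [← pow_succ]
      rfl
    show ((inv (SerreVanish.twistTwist c M (m + 1) (p := 1) (q := m + 1 + 1) rfl) ≫
      phi c m ((tw c).obj M)).app V) (rpow c a (m + 1 + 1) z) =
        (raise c a M ≫ rho c a (m + 1) ((tw c).obj M)).app V z
    rw [Scheme.Modules.Hom.comp_app, Scheme.Modules.Hom.comp_app, ConcreteCategory.comp_apply,
      ConcreteCategory.comp_apply, key]
    exact ih ((tw c).obj M) V _

/-- Sections over a locus extend, after multiplying, to sections of an iterated twist. -/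
theorem exists_rho_extend {M : X.Modules} [M.IsQuasicoherent] (a : c.sect 1 ⊤) {U : X.Opens}
    (hU : IsCompact (U : Set X))
    (hqs : ∀ W W' : X.Opens, W ≤ U → W' ≤ U → IsAffineOpen W → IsAffineOpen W' →
      IsCompact ((W ⊓ W' : X.Opens) : Set X))
    (z : Γ(M, U ⊓ c.locus a)) :
    ∃ (m : ℕ) (B : Γ((twPow c m).obj M, U)),
      mres ((twPow c m).obj M) (inf_le_left : U ⊓ c.locus a ≤ U) B = (rho c a m M).app (U ⊓ c.locus a) z := by
  obtain ⟨m, B, hB⟩ := exists_extend c a hU hqs z
  refine ⟨m + 1, (phi c m M).app U B, ?_⟩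
  rw [← app_mres]
  exact (congrArg ((phi c m M).app (U ⊓ c.locus a)) hB).trans (phi_rpow c a m M _ z)

end GrothLib.RegSheaf
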