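import Groth.Agent.Lib.RegSheaf.Vanish
import Groth.Agent.Lib.RegSheaf.Rho
import Groth.Agent.Lib.WeakAss.Basic
import Groth.Agent.Lib.QCoh.SupportExact

/-!
# Relative generation by sections along the Koszul resolution
-/

universe u

set_option backward.isDefEq.respectTransparency false
set_option linter.style.haveILetI false

open AlgebraicGeometry CategoryTheory CategoryTheory.Limits TopologicalSpace Opposite
open GrothLib.InvExt (mres)
open GrothLib.Ample (Cocycle)
open GrothLib.CMReg (tw twPow kos raise cyc cycSeq Covers IsoOn twCommIso top)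
open GrothLib.QCoh (stalkLin)

noncomputable section

namespace GrothLib.RegSheaf

variable {X Y : Scheme.{u}} (f : X ⟶ Y) (c : Cocycle X) (a : ℕ → c.sect 1 ⊤)

theorem stalkLin_bijective_of_isoOn {M N : X.Modules} {φ : M ⟶ N} {W : X.Opens} (h : IsoOn φ W)
    {x : X} (hx : x ∈ W) : Function.Bijective (stalkLin φ x) := by
  constructor
  · intro e e' he
    obtain ⟨U, hU, s, rfl⟩ := TopCat.Presheaf.exists_germ_eq M.presheaf e
    obtain ⟨U', hU', s', rfl⟩ := TopCat.Presheaf.exists_germ_eq M.presheaf e'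
    rw [QCoh.stalkLin_germ, QCoh.stalkLin_germ] at he
    obtain ⟨T, hT, i, i', ht⟩ := TopCat.Presheaf.germ_eq N.presheaf x hU hU' _ _ he
    have hxT : x ∈ T ⊓ W := ⟨hT, hx⟩
    have key : mres M ((inf_le_left : T ⊓ W ≤ T).trans i.le) s =
        mres M ((inf_le_left : T ⊓ W ≤ T).trans i'.le) s' := by
      refine (h _ inf_le_right).1 ?_
      rw [Ample.app_mres, Ample.app_mres, ← InvExt.mres_mres N i.le inf_le_left,
        ← InvExt.mres_mres N i'.le inf_le_left]
      exact congrArg (mres N inf_le_left) ht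
    have := congrArg (M.presheaf.germ (T ⊓ W) x hxT) key
    erw [TopCat.Presheaf.germ_res_apply, TopCat.Presheaf.germ_res_apply] at this
    exact this
  · intro e
    obtain ⟨U, hU, s, rfl⟩ := TopCat.Presheaf.exists_germ_eq N.presheaf e
    obtain ⟨t, ht⟩ := (h (U ⊓ W) inf_le_right).2 (mres N inf_le_left s)
    refine ⟨M.presheaf.germ (U ⊓ W) x ⟨hU, hx⟩ t, ?_⟩
    rw [QCoh.stalkLin_germ, ht]
    exact TopCat.Presheaf.germ_res_apply N.presheaf _ x _ s

/-- The sections pushed forward from the `r + 1` raises jointly surject. -/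
def Joint (r : ℕ) (N : X.Modules) : Prop :=
  ∀ (Z : Y.Modules) (g : (Scheme.Modules.pushforward f).obj ((tw c).obj N) ⟶ Z),
    (∀ l, l < r + 1 → (Scheme.Modules.pushforward f).map (raise c (a l) N) ≫ g = 0) → g = 0

theorem joint_of_iso {r : ℕ} {N N' : X.Modules} (e : N ≅ N') (h : Joint f c a r N) :
    Joint f c a r N' := by
  intro Z g hg
  have h0 : (Scheme.Modules.pushforward f).map ((tw c).map e.hom) ≫ g = 0 := by
    refine h Z _ fun l hl => ?_
    rw [← Category.assoc, ← Functor.map_comp, CMReg.raise_naturality, Functor.map_comp, Category.assoc,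
      hg l hl, comp_zero]
  exact (cancel_epi ((Scheme.Modules.pushforward f).map ((tw c).map e.hom))).1 (h0.trans comp_zero.symm)

/-- The last Koszul differential is a combination of raises. -/
theorem exists_top_d : ∀ (r : ℕ) (M : X.Modules),
    ∃ h : ℕ → (((kos c a (r + 1)).K r).obj M ⟶ (twPow c r).obj M),
      ((kos c a (r + 1)).d r).app M ≫ (top c a (r + 1)).app M =
        ∑ l ∈ Finset.range (r + 1), h l ≫ (twPow c r).map (raise c (a l) M) := by
  intro r
  induction r with
  | zero =>
    intro M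
    refine ⟨fun _ => 𝟙 _, ?_⟩
    rw [Finset.sum_range_one, Category.id_comp]
    show biprod.lift _ _ ≫ biprod.snd ≫ 𝟙 _ = _
    rw [Category.comp_id, biprod.lift_snd]
    rfl
  | succ r ih =>
    intro M
    obtain ⟨h, hh⟩ := ih ((tw c).obj M)
    let P := kos c a (r + 1)
    refine ⟨fun l => if l = r + 1 then
        (biprod.fst : (P.K (r + 1)).obj M ⊞ (P.K r).obj ((tw c).obj M) ⟶ _) ≫ (top c a (r + 1)).app M
      else -((biprod.snd : (P.K (r + 1)).obj M ⊞ (P.K r).obj ((tw c).obj M) ⟶ _) ≫ h l), ?_⟩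
    have e : ((kos c a (r + 2)).d (r + 1)).app M ≫ (top c a (r + 2)).app M =
        biprod.fst ≫ (top c a (r + 1)).app M ≫ (twPow c (r + 1)).map (raise c (a (r + 1)) M) -
          biprod.snd ≫ (P.d r).app ((tw c).obj M) ≫ (top c a (r + 1)).app ((tw c).obj M) := by
      show biprod.lift _ _ ≫ biprod.snd ≫ (top c a (r + 1)).app ((tw c).obj M) = _
      rw [biprod.lift_snd_assoc, Preadditive.sub_comp, Category.assoc, Category.assoc,
        (top c a (r + 1)).naturality]
    rw [e, hh, Finset.sum_range_succ _ (r + 1)]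
    simp only [if_pos, Category.assoc]
    rw [sub_eq_neg_add]
    refine congrArg (· + _) ?_
    rw [Preadditive.comp_sum, ← Finset.sum_neg_distrib]
    refine Finset.sum_congr rfl fun l hl => ?_
    rw [if_neg (Finset.mem_range.1 hl).ne, Preadditive.neg_comp]
    refine congrArg (fun t => -t) ((Category.assoc _ _ _).symm.trans (congrArg (_ ≫ ·) ?_))
    show (twPow c r).map (raise c (a l) ((tw c).obj M)) = (twPow c r).map ((tw c).map (raise c (a l) M))
    rw [CMReg.tw_map_raise]

variable {c a} {r : ℕ} (hc : Covers c a (r + 1))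

include hc in
theorem joint_twPow (M : X.Modules)
    (h : ∀ s, s < r → Van f ((twPow c s).obj M) (1 + (r - 1 - s))) :
    Joint f c a r ((twPow c r).obj M) := by
  intro Z g hg
  have hd : ((kos c a (r + 1)).d (r + 1)).app M = 0 :=
    (CMReg.isZero_kos c a (r + 1) (r + 2) (r + 1).lt_succ_self M).eq_of_tgt _ _
  haveI := CMReg.isIso_top c a (r + 1) M
  have hS := CMReg.shortExact_cycSeq hc M r
  have hse := shortExact_map_pushforward f hS (van_cyc f hc M r 0 h)
  haveI : Epi ((Scheme.Modules.pushforward f).map (cycSeq c a (r + 1) M r).g) := hse.epi_g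
  haveI : IsIso (kernel.ι (((kos c a (r + 1)).d (r + 1)).app M)) :=
    ⟨kernel.lift _ (𝟙 _) (by rw [hd, comp_zero]),
      (cancel_mono (kernel.ι _)).1 (by rw [Category.assoc, kernel.lift_ι, Category.comp_id, Category.id_comp]),
      kernel.lift_ι _ _ _⟩
  haveI : Epi ((Scheme.Modules.pushforward f).map
      (((kos c a (r + 1)).d r).app M ≫ (top c a (r + 1)).app M)) := by
    rw [← kernel.lift_ι (((kos c a (r + 1)).d (r + 1)).app M) (((kos c a (r + 1)).d r).app M)
      ((kos c a (r + 1)).dd r M), Category.assoc, Functor.map_comp]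
    exact epi_comp _ _
  let κ := (twCommIso c r M).hom
  have h0 : (Scheme.Modules.pushforward f).map
      (((kos c a (r + 1)).d r).app M ≫ (top c a (r + 1)).app M) ≫
        (Scheme.Modules.pushforward f).map (twCommIso c r M).inv ≫ g = 0 := by
    obtain ⟨hl, e⟩ := exists_top_d c a r M
    rw [e, Functor.map_sum, Preadditive.sum_comp]
    refine Finset.sum_eq_zero fun l hl' => ?_
    rw [← Category.assoc, ← Functor.map_comp, Category.assoc, ← CMReg.raise_twCommIso, Category.assoc,
      Iso.hom_inv_id, Category.comp_id, Functor.map_comp, Category.assoc,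
      hg l (Finset.mem_range.1 hl'), comp_zero]
  exact (cancel_epi ((Scheme.Modules.pushforward f).map (twCommIso c r M).inv)).1
    (((cancel_epi _).1 (h0.trans comp_zero.symm)).trans comp_zero.symm)

/-- The counit of pullback and pushforward. -/
abbrev ev (M : X.Modules) :=
  (Scheme.Modules.pullbackPushforwardAdjunction f).counit.app M

theorem ev_comp_eq_zero {N : X.Modules} (hN : Joint f c a r N) {Z : X.Modules}
    (q : (tw c).obj N ⟶ Z) (hq : (tw c).map (ev f N) ≫ q = 0) : ev f ((tw c).obj N) ≫ q = 0 := by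
  let adj := Scheme.Modules.pullbackPushforwardAdjunction f
  apply (adj.homEquiv _ _).injective
  rw [show adj.homEquiv _ _ 0 = 0 by rw [Adjunction.homEquiv_unit, Functor.map_zero, comp_zero]]
  refine hN _ _ fun l _ => ?_
  rw [← Adjunction.homEquiv_naturality_left]
  have : (Scheme.Modules.pullback f).map ((Scheme.Modules.pushforward f).map (raise c (a l) N)) ≫
      ev f ((tw c).obj N) ≫ q = 0 := by
    rw [← Category.assoc]
    erw [adj.counit_naturality (raise c (a l) N)]
    rw [← CMReg.raise_naturality, Category.assoc, hq, comp_zero]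
  rw [this, Adjunction.homEquiv_unit, Functor.map_zero, comp_zero]

/-- The image of the counit of a twist lies in the twist of the image. -/
theorem exists_stalk_raise {N : X.Modules} (hN : Joint f c a r N) {x : X} {j : ℕ}
    (hj : x ∈ c.locus (a j))
    (e : ((Scheme.Modules.pullback f).obj
      ((Scheme.Modules.pushforward f).obj ((tw c).obj N))).presheaf.stalk x) :
    ∃ e', stalkLin (raise c (a j) N) x (stalkLin (ev f N) x e') = stalkLin (ev f ((tw c).obj N)) x e := by
  let T := ShortComplex.mk ((tw c).map (ev f N)) (cokernel.π _) (cokernel.condition _)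
  have hT : T.Exact := ShortComplex.exact_of_g_is_cokernel _ (cokernelIsCokernel _)
  have hex : Function.Exact (stalkLin T.f x) (stalkLin T.g x) :=
    (ShortComplex.ShortExact.moduleCat_exact_iff_function_exact _).1 ((OX.exact_iff T).1 hT x)
  have h0 : stalkLin T.g x (stalkLin (ev f ((tw c).obj N)) x e) = 0 := by
    refine (QCoh.stalkLin_comp (ev f ((tw c).obj N)) T.g x e).symm.trans ?_
    rw [ev_comp_eq_zero f hN T.g T.zero]
    exact LinearMap.congr_fun (congrArg ModuleCat.Hom.hom ((OX.stalk x).map_zero _ _)) e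
  obtain ⟨d, hd⟩ := (hex _).1 h0
  obtain ⟨e', he'⟩ := (stalkLin_bijective_of_isoOn (CMReg.isoOn_raise c (a j) _) hj).2 d
  refine ⟨e', ?_⟩
  rw [← hd, ← he']
  refine (QCoh.stalkLin_comp (ev f N) (raise c (a j) N) x e').symm.trans ?_
  refine Eq.trans ?_ (QCoh.stalkLin_comp (raise c (a j) _) ((tw c).map (ev f N)) x e')
  exact congrArg (fun φ => stalkLin φ x e') (CMReg.raise_naturality c (a j) (ev f N)).symm

theorem exists_stalk_rho {x : X} {j : ℕ} (hj : x ∈ c.locus (a j)) :
    ∀ (b : ℕ) (N : X.Modules), (∀ b', b' < b → Joint f c a r ((twPow c b').obj N)) →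
      ∀ e, ∃ e', stalkLin (rho c (a j) b N) x (stalkLin (ev f N) x e') =
        stalkLin (ev f ((twPow c b).obj N)) x e := by
  intro b
  induction b with
  | zero =>
    intro N _ e
    exact ⟨e, QCoh.stalkLin_id _ _ _⟩
  | succ b ih =>
    intro N h e
    obtain ⟨e₁, he₁⟩ := ih ((tw c).obj N) (fun b' hb' => h (b' + 1) (by omega)) e
    obtain ⟨e', he'⟩ := exists_stalk_raise f (h 0 (by omega)) hj e₁
    refine ⟨e', ?_⟩
    show stalkLin (raise c (a j) N ≫ rho c (a j) b ((tw c).obj N)) x _ = _
    rw [QCoh.stalkLin_comp]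
    exact (congrArg _ he').trans he₁

theorem stalkLin_rho_injective {x : X} {j : ℕ} (hj : x ∈ c.locus (a j)) :
    ∀ (b : ℕ) (N : X.Modules), Function.Injective (stalkLin (rho c (a j) b N) x) := by
  intro b
  induction b with
  | zero =>
    intro N e e' h
    exact ((QCoh.stalkLin_id N x e).symm.trans h).trans (QCoh.stalkLin_id N x e')
  | succ b ih =>
    intro N e e' h
    change stalkLin (raise c (a j) N ≫ rho c (a j) b ((tw c).obj N)) x e =
      stalkLin (raise c (a j) N ≫ rho c (a j) b ((tw c).obj N)) x e' at h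
    rw [QCoh.stalkLin_comp, QCoh.stalkLin_comp] at h
    exact (stalkLin_bijective_of_isoOn (CMReg.isoOn_raise c (a j) N) hj).1 (ih _ h)

/-- A germ of a section over the preimage of an open lies in the image of the counit. -/
theorem exists_ev_eq_germ (M : X.Modules) {V : Y.Opens} {x : X} (hx : x ∈ f ⁻¹ᵁ V)
    (B : Γ(M, f ⁻¹ᵁ V)) : ∃ e, stalkLin (ev f M) x e = M.presheaf.germ (f ⁻¹ᵁ V) x hx B := by
  refine ⟨((Scheme.Modules.pullback f).obj ((Scheme.Modules.pushforward f).obj M)).presheaf.germ
    (f ⁻¹ᵁ V) x hx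
    (((Scheme.Modules.pullbackPushforwardAdjunction f).unit.app
      ((Scheme.Modules.pushforward f).obj M)).app V B), ?_⟩
  refine (QCoh.stalkLin_germ (ev f M) hx _).trans ?_
  refine congrArg (M.presheaf.germ (f ⁻¹ᵁ V) x hx) ?_
  exact congrArg (fun φ : (Scheme.Modules.pushforward f).obj M ⟶ _ => φ.app V B)
    ((Scheme.Modules.pullbackPushforwardAdjunction f).right_triangle_components M)

/-- The counit is an epimorphism. -/
theorem epi_ev [QuasiCompact f] [QuasiSeparated f] (hcov : Covers c a (r + 1))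
    (haff : ∀ V : Y.Opens, IsAffineOpen V → ∀ l, l < r + 1 → IsAffineOpen (f ⁻¹ᵁ V ⊓ c.locus (a l)))
    (F : X.Modules) [F.IsQuasicoherent] (hF : ∀ b, Joint f c a r ((twPow c b).obj F)) :
    Epi (ev f F) := by
  rw [OX.epi_iff]
  intro x
  rw [ModuleCat.epi_iff_surjective]
  intro (e : F.presheaf.stalk x)
  obtain ⟨V, hV, hxV, -⟩ := Opens.isBasis_iff_nbhd.1 Y.isBasis_affineOpens (Opens.mem_top (f x))
  obtain ⟨j, hjr, hj⟩ := hcov x
  have hA := haff V hV j hjr
  have hxA : x ∈ f ⁻¹ᵁ V ⊓ c.locus (a j) := ⟨hxV, hj⟩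
  obtain ⟨u, z, hu, hz⟩ := WeakAss.exists_smul_eq_germ hA hxA e
  have huu : IsUnit (X.presheaf.germ _ x hxA u) :=
    (Scheme.mem_basicOpen _ u x hxA).1 (WeakAss.notMem_primeAt_iff.1 hu)
  have hcpt : IsCompact ((f ⁻¹ᵁ V : X.Opens) : Set X) :=
    QuasiCompact.isCompact_preimage (f := f) (V : Set Y) V.2 hV.isCompact
  have hqs : IsQuasiSeparated ((f ⁻¹ᵁ V : X.Opens) : Set X) :=
    f.isQuasiSeparated_preimage hV.isQuasiSeparated
  obtain ⟨m, B, hB⟩ := exists_rho_extend c (a j) hcpt (fun W W' hW hW' hWa hWa' =>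
    hqs _ _ hW W.2 hWa.isCompact hW' W'.2 hWa'.isCompact) z
  obtain ⟨d, hd⟩ := exists_ev_eq_germ f ((twPow c m).obj F) hxV B
  obtain ⟨e', he'⟩ := exists_stalk_rho f hj m F (fun b _ => hF b) d
  have key : stalkLin (ev f F) x e' = F.presheaf.germ _ x hxA z := by
    apply stalkLin_rho_injective hj m F
    rw [he', hd, QCoh.stalkLin_germ, ← hB]
    exact (TopCat.Presheaf.germ_res_apply _ _ x _ B).symm
  refine ⟨(↑huu.unit⁻¹ : X.presheaf.stalk x) • e', ?_⟩
  show stalkLin (ev f F) x _ = e
  rw [map_smul, key, ← hz, smul_smul, IsUnit.val_inv_mul, one_smul]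

end GrothLib.RegSheaf
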