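import Groth.Agent.Lib.DerCat.RDMiddle

/-!
# Vanishing of derived functors on the left end of a short exact sequence
-/

set_option autoImplicit false
universe v v' u u'

open CategoryTheory CategoryTheory.Limits

namespace GrothLib.RegSheaf

open GrothLib.HomGamma

variable {A : Type u} [Category.{v} A] [Abelian A] [EnoughInjectives A]
  {B : Type u'} [Category.{v'} B] [Abelian B] (Φ : A ⥤ B) [Φ.Additive] [PreservesFiniteLimits Φ]

/-- The two cosyzygies of an embedding of the middle term. -/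
theorem exists_cosyzygy (S : ShortComplex A) (hS : S.ShortExact) :
    ∃ (I Q Q' : A) (i : S.X₂ ⟶ I) (p : I ⟶ Q) (p' : I ⟶ Q') (c : S.X₃ ⟶ Q') (d : Q' ⟶ Q)
      (w : i ≫ p = 0) (w' : (S.f ≫ i) ≫ p' = 0) (wcd : c ≫ d = 0), Injective I ∧
      (ShortComplex.mk i p w).ShortExact ∧ (ShortComplex.mk (S.f ≫ i) p' w').ShortExact ∧
      (ShortComplex.mk c d wcd).ShortExact ∧ p' ≫ d = p ∧ S.g ≫ c = i ≫ p' := by
  have := hS.mono_f
  have := hS.epi_g
  let i := Injective.ι S.X₂
  let p := cokernel.π i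
  let p' := cokernel.π (S.f ≫ i)
  let c : S.X₃ ⟶ cokernel (S.f ≫ i) :=
    hS.exact.desc (i ≫ p') (by rw [← Category.assoc]; exact cokernel.condition _)
  have hc : S.g ≫ c = i ≫ p' := hS.exact.g_desc _ _
  let d : cokernel (S.f ≫ i) ⟶ cokernel i :=
    cokernel.desc _ p (by rw [Category.assoc, cokernel.condition, comp_zero])
  have hd : p' ≫ d = p := cokernel.π_desc _ _ _
  have wcd : c ≫ d = 0 := by
    rw [← cancel_epi S.g, ← Category.assoc, hc, Category.assoc, hd, cokernel.condition, comp_zero]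
  have hex : (ShortComplex.mk (S.f ≫ i) p' (cokernel.condition _)).Exact :=
    ShortComplex.exact_of_g_is_cokernel _ (cokernelIsCokernel _)
  have hex' : (ShortComplex.mk i p (cokernel.condition _)).Exact :=
    ShortComplex.exact_of_g_is_cokernel _ (cokernelIsCokernel _)
  refine ⟨_, _, _, i, p, p', c, d, cokernel.condition _, cokernel.condition _, wcd, inferInstance,
    { exact := hex' }, { exact := hex }, ?_, hd, hc⟩
  have : Mono c := by
    refine Preadditive.mono_of_cancel_zero _ fun {V} x hx => ?_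
    obtain ⟨V₁, q, hq, x₁, hx₁⟩ := surjective_up_to_refinements_of_epi S.g x
    have h0 : (x₁ ≫ i) ≫ p' = 0 := by
      rw [Category.assoc, ← hc, ← Category.assoc, ← hx₁, Category.assoc, hx, comp_zero]
    obtain ⟨V₂, r, hr, t, ht⟩ := hex.exact_up_to_refinements (x₁ ≫ i) h0
    have h1 : r ≫ x₁ = t ≫ S.f := by
      rw [← cancel_mono i, Category.assoc, Category.assoc]; exact ht
    rw [← cancel_epi q, ← cancel_epi r, hx₁, ← Category.assoc, h1, Category.assoc, S.zero, comp_zero,
      comp_zero, comp_zero]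
  have : Epi d := by
    have : Epi (p' ≫ d) := by rw [hd]; infer_instance
    exact epi_of_epi p' d
  refine { exact := ?_ }
  rw [ShortComplex.exact_iff_exact_up_to_refinements]
  intro V y hy
  obtain ⟨V₁, q, hq, w, hw⟩ := surjective_up_to_refinements_of_epi p' y
  have h0 : w ≫ p = 0 := by
    rw [← hd, ← Category.assoc, ← hw, Category.assoc, hy, comp_zero]
  obtain ⟨V₂, r, hr, x, hx⟩ := hex'.exact_up_to_refinements w h0
  refine ⟨V₂, r ≫ q, inferInstance, x ≫ S.g, ?_⟩
  change (r ≫ q) ≫ y = (x ≫ S.g) ≫ c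
  rw [Category.assoc, hw, ← Category.assoc, hx, Category.assoc, Category.assoc, hc]

/-- `R^1` of a subobject vanishes. -/
theorem isZero_rightDerived_X₁_one (S : ShortComplex A) (hS : S.ShortExact)
    (h₂ : IsZero ((Φ.rightDerived 1).obj S.X₂)) [Epi (Φ.map S.g)] :
    IsZero ((Φ.rightDerived 1).obj S.X₁) := by
  obtain ⟨I, Q, Q', i, p, p', c, d, w, w', wcd, hI, hT, hU, hV, hd, hc⟩ := exists_cosyzygy S hS
  haveI : Injective (ShortComplex.mk i p w).X₂ := hI
  haveI : Injective (ShortComplex.mk (S.f ≫ i) p' w').X₂ := hI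
  haveI : Epi (Φ.map p) := epi_map_g_of_isZero hT Φ h₂
  haveI : Epi (Φ.map p') := by
    haveI := hV.mono_f
    rw [epi_iff_surjective_up_to_refinements]
    intro W y
    obtain ⟨W₁, q, hq, z, hz⟩ := surjective_up_to_refinements_of_epi (Φ.map p) (y ≫ Φ.map d)
    have hex := hV.exact.map_of_mono_of_preservesKernel Φ inferInstance inferInstance
    obtain ⟨W₂, r, hr, x, hx⟩ := hex.exact_up_to_refinements (q ≫ y - z ≫ Φ.map p') (by
      change (q ≫ y - z ≫ Φ.map p') ≫ Φ.map d = 0
      rw [Preadditive.sub_comp, Category.assoc, hz, Category.assoc, ← Φ.map_comp, hd, sub_self])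
    change r ≫ (q ≫ y - z ≫ Φ.map p') = x ≫ Φ.map c at hx
    obtain ⟨W₃, s, hs, b, hb⟩ := surjective_up_to_refinements_of_epi (Φ.map S.g) x
    refine ⟨W₃, s ≫ r ≫ q, inferInstance, s ≫ r ≫ z + b ≫ Φ.map i, ?_⟩
    replace hx := congrArg (s ≫ ·) hx
    dsimp only at hx
    simp only [Preadditive.comp_sub, sub_eq_iff_eq_add] at hx
    simp only [Category.assoc, hx, Preadditive.add_comp, ← Φ.map_comp]
    have e : s ≫ x ≫ Φ.map c = b ≫ Φ.map (i ≫ p') :=
      (Category.assoc _ _ _).symm.trans ((congrArg (· ≫ Φ.map c) hb).trans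
        ((Category.assoc _ _ _).trans (congrArg (b ≫ ·) ((Φ.map_comp _ _).symm.trans (congrArg Φ.map hc)))))
    exact (congrArg (· + _) e).trans (add_comm _ _)
  exact (isZero_cokernel_of_epi (Φ.map p')).of_iso (shiftIsoOne hU Φ)

/-- `R^{k+2}` of a subobject vanishes. -/
theorem isZero_rightDerived_X₁ (k : ℕ) (S : ShortComplex A) (hS : S.ShortExact)
    (h₂ : IsZero ((Φ.rightDerived (k + 2)).obj S.X₂)) (h₃ : IsZero ((Φ.rightDerived (k + 1)).obj S.X₃)) :
    IsZero ((Φ.rightDerived (k + 2)).obj S.X₁) := by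
  obtain ⟨I, Q, Q', i, p, p', c, d, w, w', wcd, hI, hT, hU, hV, -, -⟩ := exists_cosyzygy S hS
  haveI : Injective (ShortComplex.mk i p w).X₂ := hI
  haveI : Injective (ShortComplex.mk (S.f ≫ i) p' w').X₂ := hI
  exact (isZero_rightDerived_X₂ Φ k _ hV h₃ (h₂.of_iso (shiftIso hT Φ k).symm)).of_iso
    (shiftIso hU Φ k)

end GrothLib.RegSheaf
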