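import Groth.Agent.Lib.CMReg.Twist
import Groth.Agent.Lib.Ample.ModTwist

/-!
# Extension of sections from a locus inside a quasi-compact quasi-separated open
-/

universe u

set_option backward.isDefEq.respectTransparency false
set_option linter.style.haveILetI false

open AlgebraicGeometry CategoryTheory CategoryTheory.Limits TopologicalSpace Opposite
open GrothLib.InvExt (mres)
open GrothLib.Ample (Cocycle res)
open GrothLib.Ample

noncomputable section

namespace GrothLib.RegSheaf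

variable {X : Scheme.{u}} (c : Cocycle X)

/-- A section times the `m`-th power of `a`. -/
def rpow {M : X.Modules} (a : c.sect 1 ⊤) (m : ℕ) {V : X.Opens} (z : Γ(M, V)) : c.msect M m V :=
  ⟨fun i => res (inf_le_inf_right (c.D i) (le_top : V ≤ ⊤)) (a.1 i) ^ m • mres M inf_le_left z,
    fun i j W hi hj => by
      simp only [mres_smul', map_pow, res_res, InvExt.mres_mres]
      rw [c.sect_spec a i j (hi.trans (inf_le_inf_right (c.D i) (le_top : V ≤ ⊤)))
        (hj.trans (inf_le_inf_right (c.D j) (le_top : V ≤ ⊤))), smul_smul, pow_one, mul_pow]⟩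

theorem rpow_apply {M : X.Modules} (a : c.sect 1 ⊤) (m : ℕ) {V : X.Opens} (z : Γ(M, V)) (i : c.ι) :
    (rpow c a m z).1 i = res (inf_le_inf_right (c.D i) (le_top : V ≤ ⊤)) (a.1 i) ^ m • mres M inf_le_left z :=
  rfl

theorem msectRes_rpow {M : X.Modules} (a : c.sect 1 ⊤) (m : ℕ) {V W : X.Opens} (h : W ≤ V) (z : Γ(M, V)) :
    c.msectRes h (rpow c a m z) = rpow c a m (mres M h z) :=
  c.msect_ext fun i => by
    simp only [Cocycle.msectRes_apply, rpow_apply, mres_smul', map_pow, res_res, InvExt.mres_mres]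

theorem mraise_rpow {M : X.Modules} (a : c.sect 1 ⊤) (m N : ℕ) {V : X.Opens} (z : Γ(M, V)) :
    c.mraise a (rpow c a m z) N = c.msectCast (by rw [one_mul]) (rpow c a (m + N) z) :=
  c.msect_ext fun i => by
    simp only [Cocycle.mraise_apply, Cocycle.msectCast_apply, rpow_apply, smul_smul, pow_add, mul_comm]

/-- On a compact open with quasi-separated intersections, sections on the locus extend after raising. -/
theorem exists_extend {M : X.Modules} [M.IsQuasicoherent] (a : c.sect 1 ⊤) {U : X.Opens}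
    (hU : IsCompact (U : Set X))
    (hqs : ∀ W W' : X.Opens, W ≤ U → W' ≤ U → IsAffineOpen W → IsAffineOpen W' →
      IsCompact ((W ⊓ W' : X.Opens) : Set X))
    (z : Γ(M, U ⊓ c.locus a)) :
    ∃ (m : ℕ) (B : c.msect M (m + 1) U),
      c.msectRes (inf_le_left : U ⊓ c.locus a ≤ U) B = rpow c a (m + 1) z := by
  classical
  have hloc : ∀ p : U, ∃ (i : c.ι) (W : X.Opens), (p : X) ∈ W ∧ W ≤ c.D i ∧ W ≤ U ∧ IsAffineOpen W := by
    intro p
    obtain ⟨i, hi⟩ := c.exists_mem p.1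
    obtain ⟨W, hW, hpW, hle⟩ :=
      Opens.isBasis_iff_nbhd.1 X.isBasis_affineOpens (show (p : X) ∈ c.D i ⊓ U from ⟨hi, p.2⟩)
    exact ⟨i, W, hpW, hle.trans inf_le_left, hle.trans inf_le_right, hW⟩
  choose i W hpW hWD hWU hW using hloc
  obtain ⟨t, ht⟩ := hU.elim_finite_subcover (fun p => (W p : Set X)) (fun p => (W p).2)
    (fun x hx => Set.mem_iUnion.mpr ⟨⟨x, hx⟩, hpW ⟨x, hx⟩⟩)
  have hcov : U ≤ ⨆ p : t, W p.1 := fun x hx => by
    obtain ⟨p, hp, hx⟩ := Set.mem_iUnion₂.mp (ht hx)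
    exact Opens.mem_iSup.mpr ⟨⟨p, hp⟩, hx⟩
  -- local extensions
  have he₀ : ∀ p : t, ∃ (m : ℕ) (b : c.msect M m (W p.1)), ∀ h : W p.1 ⊓ c.locus a ≤ U ⊓ c.locus a,
      c.msectRes (inf_le_left : W p.1 ⊓ c.locus a ≤ W p.1) b = rpow c a m (mres M h z) := by
    intro p
    let α : Γ(X, W p.1) := res (le_inf le_top (hWD p.1)) (a.1 (i p.1))
    have hα : c.locus a ⊓ W p.1 = X.basicOpen α := c.locus_inf_eq_basicOpen a (hWD p.1)
    have h1 : X.basicOpen α ≤ U ⊓ c.locus a :=
      le_inf ((X.basicOpen_le α).trans (hWU p.1)) (hα ▸ inf_le_left)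
    obtain ⟨m, t', ht'⟩ := (QCoh.smulLift_and_smulSep_of_isAffineOpen (hW p.1) M α).1 (mres M h1 z)
    change mres M (X.basicOpen_le α) t' = res (X.basicOpen_le α) α ^ m • mres M h1 z at ht'
    refine ⟨m, c.mbase m (i p.1) (hWD p.1) t', fun h => c.msect_ext_of_le (inf_le_left.trans (hWD p.1)) ?_⟩
    have h2 : W p.1 ⊓ c.locus a ≤ X.basicOpen α := (inf_comm _ _).le.trans hα.le
    have e := congrArg
      (mres M (inf_le_left.trans h2 : (W p.1 ⊓ c.locus a) ⊓ c.D (i p.1) ≤ X.basicOpen α)) ht'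
    simp only [α, mres_smul', map_pow, InvExt.mres_mres, res_res] at e
    simp only [Cocycle.msectRes_apply, Cocycle.mbase_self, rpow_apply, InvExt.mres_mres, e]
  choose m₁ b₁ hb₁ using he₀
  let m₀ := Finset.univ.sup m₁ + 1
  have he : ∀ p : t, ∃ b : c.msect M m₀ (W p.1), ∀ h : W p.1 ⊓ c.locus a ≤ U ⊓ c.locus a,
      c.msectRes (inf_le_left : W p.1 ⊓ c.locus a ≤ W p.1) b = rpow c a m₀ (mres M h z) := by
    intro p
    have hle : m₁ p + (m₀ - m₁ p) = m₀ :=
      Nat.add_sub_cancel' ((Finset.le_sup (Finset.mem_univ p)).trans (Nat.le_succ _))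
    refine ⟨c.msectCast (show m₁ p + 1 * (m₀ - m₁ p) = m₀ by rw [one_mul, hle])
      (c.mraise a (b₁ p) (m₀ - m₁ p)), fun h => ?_⟩
    rw [c.msectRes_msectCast, c.msectRes_mraise, hb₁ p h, mraise_rpow]
    exact c.msect_ext fun l => by simp only [Cocycle.msectCast_apply, rpow_apply, hle]
  choose b₀ hb₀ using he
  have hpair : ∀ p q : t, ∃ N₀, ∀ N, N₀ ≤ N →
      c.mraise a (c.msectRes (inf_le_left : W p.1 ⊓ W q.1 ≤ W p.1) (b₀ p)) N =
      c.mraise a (c.msectRes (inf_le_right : W p.1 ⊓ W q.1 ≤ W q.1) (b₀ q)) N := by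
    intro p q
    refine c.exists_mraise_eq a ?_ (inf_le_left.trans (hWD p.1)) _ _ ?_
    · exact hqs _ _ (hWU p.1) (hWU q.1) (hW p.1) (hW q.1)
    · let T := W p.1 ⊓ W q.1 ⊓ c.locus a
      have hp : T ≤ W p.1 ⊓ c.locus a := inf_le_inf_right _ inf_le_left
      have hq : T ≤ W q.1 ⊓ c.locus a := inf_le_inf_right _ inf_le_right
      have ep := congrArg (c.msectRes hp) (hb₀ p (inf_le_inf_right _ (hWU p.1)))
      have eq := congrArg (c.msectRes hq) (hb₀ q (inf_le_inf_right _ (hWU q.1)))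
      simp only [Cocycle.msectRes_msectRes, msectRes_rpow, InvExt.mres_mres] at ep eq ⊢
      exact ep.trans eq.symm
  choose N₁ hN₁ using hpair
  let N := Finset.univ.sup fun pq : t × t => N₁ pq.1 pq.2
  have hdeg : m₀ + 1 * N = Finset.univ.sup m₁ + N + 1 := by simp only [m₀]; omega
  let sf : ∀ p : t, Γ(c.modTwist M (Finset.univ.sup m₁ + N + 1), W p.1) := fun p =>
    c.msectCast hdeg (c.mraise a (b₀ p) N)
  obtain ⟨B, hB, -⟩ := TopCat.Sheaf.existsUnique_gluing'
    ⟨(c.modTwist M (Finset.univ.sup m₁ + N + 1)).presheaf, (c.modTwist M (Finset.univ.sup m₁ + N + 1)).isSheaf⟩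
    (fun p : t => W p.1) U (fun p => homOfLE (hWU p.1)) hcov sf fun p q => by
      show c.msectRes inf_le_left (c.msectCast hdeg (c.mraise a (b₀ p) N)) =
        c.msectRes inf_le_right (c.msectCast hdeg (c.mraise a (b₀ q) N))
      rw [c.msectRes_msectCast, c.msectRes_msectCast, c.msectRes_mraise, c.msectRes_mraise]
      exact congrArg (c.msectCast hdeg)
        (hN₁ p q N (Finset.le_sup (f := fun pq : t × t => N₁ pq.1 pq.2) (Finset.mem_univ (p, q))))
  let B' : c.msect M (Finset.univ.sup m₁ + N + 1) U := B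
  refine ⟨Finset.univ.sup m₁ + N, B', meq_of_cover (c.modTwist M (Finset.univ.sup m₁ + N + 1))
    (fun p : t => W p.1 ⊓ c.locus a) (fun p => inf_le_inf_right _ (hWU p.1))
    (by rw [← iSup_inf_eq]; exact inf_le_inf_right _ hcov) fun p => ?_⟩
  show c.msectRes (inf_le_inf_right _ (hWU p.1) : W p.1 ⊓ c.locus a ≤ U ⊓ c.locus a)
      (c.msectRes inf_le_left B') =
    c.msectRes (inf_le_inf_right _ (hWU p.1) : W p.1 ⊓ c.locus a ≤ U ⊓ c.locus a) (rpow c a _ z)
  have e : c.msectRes (hWU p.1) B' = c.msectCast hdeg (c.mraise a (b₀ p) N) := hB p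
  have e' := congrArg (c.msectRes (inf_le_left : W p.1 ⊓ c.locus a ≤ W p.1)) e
  rw [c.msectRes_msectRes, c.msectRes_msectCast, c.msectRes_mraise,
    hb₀ p (inf_le_inf_right _ (hWU p.1)), mraise_rpow] at e'
  rw [c.msectRes_msectRes, e', msectRes_rpow]
  exact c.msect_ext fun l => by
    simp only [Cocycle.msectCast_apply, rpow_apply]
    rw [show m₀ + N = Finset.univ.sup m₁ + N + 1 by simp only [m₀]; omega]

end GrothLib.RegSheaf
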