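import Groth.Agent.Lib.RegSheaf.Seq
import Groth.Agent.Lib.CMReg.Chase

/-!
# Relative vanishing along the Koszul resolution
-/

universe u

set_option backward.isDefEq.respectTransparency false
set_option linter.style.haveILetI false

open AlgebraicGeometry CategoryTheory CategoryTheory.Limits TopologicalSpace Opposite
open GrothLib.Ample (Cocycle)
open GrothLib.CMReg (tw twPow kos raise cyc cycSeq Covers)

noncomputable section

namespace GrothLib.RegSheaf

variable {X Y : Scheme.{u}} (f : X ⟶ Y) (c : Cocycle X) (a : ℕ → c.sect 1 ⊤)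

/-- `R^q f_*` vanishes on `M`. -/
abbrev Van (M : X.Modules) (q : ℕ) : Prop := IsZero ((Coh.RpushAb f q).obj (Coh.toAb M))

theorem van_of_iso {M N : X.Modules} (e : M ≅ N) {q : ℕ} (h : Van f M q) : Van f N q :=
  h.of_iso ((Coh.RpushAb f q).mapIso ((QCoh.toAbFun X).mapIso e.symm))

theorem van_of_isZero {M : X.Modules} (h : IsZero M) (q : ℕ) : Van f M q :=
  (Coh.RpushAb f q).map_isZero ((QCoh.toAbFun X).map_isZero h)

theorem van_biprod {M N : X.Modules} {k : ℕ} (hM : Van f M (k + 1)) (hN : Van f N (k + 1)) :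
    Van f (M ⊞ N) (k + 1) :=
  HomGamma.isZero_rightDerived_X₂ (Coh.pushAb f) k _
    (QCoh.toAbFun_map_shortExact _ (ShortComplex.Splitting.ofHasBinaryBiproduct M N).shortExact) hM hN

theorem van_kos : ∀ (r j : ℕ) (M : X.Modules) (k : ℕ),
    Van f ((twPow c j).obj M) (k + 1) → Van f (((kos c a r).K j).obj M) (k + 1) := by
  intro r
  induction r with
  | zero =>
    intro j M k h
    cases j with
    | zero => exact h
    | succ j => exact van_of_isZero f (CMReg.isZero_kos c a 0 (j + 1) j.succ_pos M) _
  | succ r ih =>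
    intro j M k h
    cases j with
    | zero => exact ih 0 M k h
    | succ j => exact van_biprod f (ih (j + 1) M k h) (ih j ((tw c).obj M) k h)

variable {c a} {r : ℕ} (hc : Covers c a r) (M : X.Modules)

include hc in
theorem van_cyc : ∀ (j k : ℕ),
    (∀ s, s < j → Van f ((twPow c s).obj M) (k + 1 + (j - 1 - s))) →
      Van f (cyc c a r M j) (k + 1) := by
  intro j
  induction j with
  | zero => exact fun k _ => van_of_isZero f (CMReg.isZero_cyc_zero hc M) _
  | succ j ih =>
    intro k h
    have h2 : Van f (((kos c a r).K j).obj M) (k + 1) := by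
      refine van_kos f c a r j M k ?_
      have := h j j.lt_succ_self
      rwa [show k + 1 + (j + 1 - 1 - j) = k + 1 by omega] at this
    have h1 : Van f (cyc c a r M j) (k + 1 + 1) := ih (k + 1) fun s hs => by
      have := h s (hs.trans j.lt_succ_self)
      rwa [show k + 1 + (j + 1 - 1 - s) = k + 1 + 1 + (j - 1 - s) by omega] at this
    exact GrothSS.isZero_rightDerived_X₃ (Coh.pushAb f) k _
      (QCoh.toAbFun_map_shortExact _ (CMReg.shortExact_cycSeq hc M j)) h1 h2

include hc in
/-- Vanishing for the iterated twist from vanishing for the lower ones. -/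
theorem van_twPow {k : ℕ} (h : ∀ s, s < r → Van f ((twPow c s).obj M) (k + 1 + (r - 1 - s))) :
    Van f ((twPow c r).obj M) (k + 1) := by
  have hd : ((kos c a r).d r).app M = 0 :=
    (CMReg.isZero_kos c a r (r + 1) r.lt_succ_self M).eq_of_tgt _ _
  haveI := CMReg.isIso_top c a r M
  exact van_of_iso f ((eqToIso (congrArg (fun φ => kernel φ) hd) ≪≫ kernelZeroIsoSource) ≪≫
    asIso ((CMReg.top c a r).app M)) (van_cyc f hc M r k h)

theorem shortExact_map_pushforward {X Y : Scheme.{u}} (f : X ⟶ Y) {T : ShortComplex X.Modules}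
    (hT : T.ShortExact) (h₁ : Van f T.X₁ 1) : (T.map (Scheme.Modules.pushforward f)).ShortExact := by
  have h : ((T.map (Scheme.Modules.pushforward f)).map (QCoh.toAbFun Y)).ShortExact :=
    HomGamma.shortExact_map_of_isZero (Coh.pushAb f) (QCoh.toAbFun_map_shortExact T hT) h₁
  have : (QCoh.toAbFun Y).Faithful := inferInstanceAs (SheafOfModules.toSheaf _).Faithful
  have : PreservesFiniteColimits (QCoh.toAbFun Y) :=
    QCoh.toSheaf_preservesFiniteColimits (R := Y.ringCatSheaf)
  have : (QCoh.toAbFun Y).PreservesZeroMorphisms := inferInstance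
  have : PreservesFiniteLimits (QCoh.toAbFun Y) :=
    (((QCoh.toAbFun Y).exact_tfae.out 0 3
      (a := ∀ (T : ShortComplex Y.Modules), T.ShortExact → (T.map (QCoh.toAbFun Y)).ShortExact)
      (b := PreservesFiniteLimits (QCoh.toAbFun Y) ∧ PreservesFiniteColimits (QCoh.toAbFun Y))).1
        QCoh.toAbFun_map_shortExact).1
  exact
    { exact := (ShortComplex.exact_map_iff_of_faithful _ (QCoh.toAbFun Y)).1 h.exact
      mono_f := (QCoh.toAbFun Y).mono_of_mono_map (f := (T.map (Scheme.Modules.pushforward f)).f) h.mono_f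
      epi_g := (QCoh.toAbFun Y).epi_of_epi_map (f := (T.map (Scheme.Modules.pushforward f)).g) h.epi_g }

end GrothLib.RegSheaf
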